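import Cfsg.Agent.Lib.BinaryAct.Triangle
import Cfsg.Agent.Lib.SpecLin.SLTwoTrace

/-!
# Triangles in `PSL₂(q)`

Elements by their traces: commuting lifts, triangles `(Y, L, Y L)` with prescribed traces and not
commuting, and the resulting criterion against binary actions.
-/

set_option autoImplicit false
set_option linter.unusedSectionVars false

namespace CfsgLib.BinaryPSL

open Matrix CfsgLib.BinaryAct CfsgLib.SpecLin

variable {F : Type*} [Field F]

local notation "SL2" => Matrix.SpecialLinearGroup (Fin 2) F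
local notation "M2" => Matrix (Fin 2) (Fin 2) F
local notation "𝔾" => Matrix.ProjectiveSpecialLinearGroup (Fin 2) F

/-- The image in the projective group. -/
abbrev pr (A : SL2) : 𝔾 := QuotientGroup.mk A

/-- The trace of a lift. -/
def tr (A : SL2) : F := A 0 0 + A 1 1

/-- The scalar lifts. -/
def Scal (A : SL2) : Prop := A 0 1 = 0 ∧ A 1 0 = 0 ∧ A 0 0 = A 1 1

theorem det_eq (A : SL2) : A 0 0 * A 1 1 - A 0 1 * A 1 0 = 1 := by
  have := A.det_coe
  rwa [Matrix.det_fin_two] at this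

theorem inv_apply (A : SL2) : (A⁻¹ : SL2) 0 0 = A 1 1 ∧ (A⁻¹ : SL2) 0 1 = -A 0 1 ∧
    (A⁻¹ : SL2) 1 0 = -A 1 0 ∧ (A⁻¹ : SL2) 1 1 = A 0 0 := by
  simp [Matrix.SpecialLinearGroup.coe_inv, Matrix.adjugate_fin_two]

theorem mul_apply_two (A B : SL2) : (A * B) 0 0 = A 0 0 * B 0 0 + A 0 1 * B 1 0 ∧
    (A * B) 0 1 = A 0 0 * B 0 1 + A 0 1 * B 1 1 ∧ (A * B) 1 0 = A 1 0 * B 0 0 + A 1 1 * B 1 0 ∧
    (A * B) 1 1 = A 1 0 * B 0 1 + A 1 1 * B 1 1 := by
  simp [Matrix.mul_apply, Fin.sum_univ_two]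

theorem ext_two {A B : SL2} (h1 : A 0 0 = B 0 0) (h2 : A 0 1 = B 0 1) (h3 : A 1 0 = B 1 0)
    (h4 : A 1 1 = B 1 1) : A = B := by
  ext i j; fin_cases i <;> fin_cases j <;> assumption

theorem neg_apply_two (A : SL2) (i j : Fin 2) : (-A : SL2) i j = -A i j := rfl

theorem tr_mul_comm (A B : SL2) : tr (A * B) = tr (B * A) := by
  obtain ⟨a, -, -, d⟩ := mul_apply_two A B
  obtain ⟨a', -, -, d'⟩ := mul_apply_two B A
  rw [tr, tr, a, d, a', d']; ring

theorem tr_conj (B A : SL2) : tr (B * A * B⁻¹) = tr A := by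
  rw [tr_mul_comm, ← mul_assoc, inv_mul_cancel, one_mul]

theorem tr_inv (A : SL2) : tr A⁻¹ = tr A := by
  obtain ⟨a, -, -, d⟩ := inv_apply A
  rw [tr, tr, a, d]; ring

theorem tr_neg (A : SL2) : tr (-A) = -tr A := by
  simp only [tr, neg_apply_two]; ring

theorem tr_sq (A : SL2) : tr (A * A) = tr A * tr A - 2 := by
  obtain ⟨a, -, -, d⟩ := mul_apply_two A A
  rw [tr, tr, a, d]
  linear_combination -2 * det_eq A

theorem trace_eq_tr (A : SL2) : (A : M2).trace = tr A := Matrix.trace_fin_two _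

theorem not_scal_iff (A : SL2) : ¬ Scal A ↔ ∀ s : F, (A : M2) ≠ s • 1 := by
  constructor
  · intro h s e
    have e' : ∀ i j, A i j = (s • (1 : M2)) i j := fun i j => congrFun (congrFun e i) j
    exact h ⟨by simpa using e' 0 1, by simpa using e' 1 0,
      (by simpa using e' 0 0 : A 0 0 = s).trans (by simpa using (e' 1 1).symm)⟩
  · rintro h ⟨h1, h2, h3⟩
    refine h (A 0 0) ?_
    ext i j
    fin_cases i <;> fin_cases j <;> simp [h1, h2, h3]

theorem tr_sq_eq_four_of_scal {A : SL2} (h : Scal A) : tr A ^ 2 = 4 := by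
  obtain ⟨h1, h2, h3⟩ := h
  have := det_eq A
  rw [h1, h2, ← h3] at this
  rw [tr, ← h3]
  linear_combination 4 * this

theorem mem_center_iff_eq {A : SL2} : A ∈ Subgroup.center SL2 ↔ A = 1 ∨ A = -1 := by
  rw [Matrix.SpecialLinearGroup.mem_center_iff]
  constructor
  · rintro ⟨r, hr, hrA⟩
    have hr' : r = 1 ∨ r = -1 := by simpa [Fintype.card_fin] using hr
    rcases hr' with rfl | rfl
    · exact Or.inl (Subtype.ext (by simp [← hrA]))
    · exact Or.inr (Subtype.ext (by simp [← hrA, ← Matrix.diagonal_neg]))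
  · rintro (rfl | rfl)
    · exact ⟨1, by simp, by simp⟩
    · exact ⟨-1, by simp, by simp [← Matrix.diagonal_neg]⟩

theorem pr_eq_one_iff (A : SL2) : pr A = 1 ↔ Scal A := by
  rw [pr, QuotientGroup.eq_one_iff, mem_center_iff_eq]
  constructor
  · rintro (rfl | rfl) <;> exact ⟨by simp, by simp, by simp⟩
  · rintro ⟨h1, h2, h3⟩
    have hd := det_eq A
    rw [h1, h2, ← h3, mul_zero, sub_zero] at hd
    rcases mul_self_eq_one_iff.1 hd with h | h
    · exact Or.inl (ext_two (by simpa using h) (by simpa using h1) (by simpa using h2)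
        (by simpa [← h3] using h))
    · exact Or.inr (ext_two (by simpa [neg_apply_two] using h) (by simpa [neg_apply_two] using h1)
        (by simpa [neg_apply_two] using h2) (by simpa [neg_apply_two, ← h3] using h))

theorem pr_eq_iff (A B : SL2) : pr A = pr B ↔ B = A ∨ B = -A := by
  rw [pr, pr, QuotientGroup.eq, mem_center_iff_eq]
  constructor
  · rintro (h | h)
    · exact Or.inl (eq_of_inv_mul_eq_one h).symm
    · refine Or.inr ?_
      calc B = A * (A⁻¹ * B) := by group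
        _ = -A := by rw [h, mul_neg, mul_one]
  · rintro (rfl | rfl)
    · left; simp
    · right; rw [mul_neg, inv_mul_cancel]

/-- Centralisers of non-scalar lifts are abelian. -/
theorem commute_of_commute {A B C : SL2} (hA : ¬ Scal A) (hB : A * B = B * A) (hC : A * C = C * A) :
    B * C = C * B := by
  have key : ∀ D : SL2, A * D = D * A → A 0 1 * D 1 0 = D 0 1 * A 1 0 ∧
      A 0 1 * (D 1 1 - D 0 0) = D 0 1 * (A 1 1 - A 0 0) ∧
      A 1 0 * (D 1 1 - D 0 0) = D 1 0 * (A 1 1 - A 0 0) := by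
    intro D hD
    obtain ⟨a, b, c, d⟩ := mul_apply_two A D
    obtain ⟨a', b', c', d'⟩ := mul_apply_two D A
    rw [hD] at a b c d
    refine ⟨?_, ?_, ?_⟩
    · linear_combination a.symm.trans a'
    · linear_combination b.symm.trans b'
    · linear_combination -(c.symm.trans c')
  obtain ⟨b1, b2, b3⟩ := key B hB
  obtain ⟨c1, c2, c3⟩ := key C hC
  have h : B 0 1 * C 1 0 = C 0 1 * B 1 0 ∧ B 0 1 * (C 1 1 - C 0 0) = C 0 1 * (B 1 1 - B 0 0) ∧
      B 1 0 * (C 1 1 - C 0 0) = C 1 0 * (B 1 1 - B 0 0) := by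
    by_cases h1 : A 0 1 = 0
    · by_cases h2 : A 1 0 = 0
      · have h3 : A 1 1 - A 0 0 ≠ 0 := fun h => hA ⟨h1, h2, (sub_eq_zero.1 h).symm⟩
        refine ⟨mul_left_cancel₀ (pow_ne_zero 2 h3) ?_, mul_left_cancel₀ h3 ?_, mul_left_cancel₀ h3 ?_⟩
        · linear_combination (A 1 1 - A 0 0) * C 0 1 * b3 - (A 1 1 - A 0 0) * B 0 1 * c3 +
            (A 1 1 - A 0 0) * (B 0 1 * (C 1 1 - C 0 0) - C 0 1 * (B 1 1 - B 0 0)) * h2
        · linear_combination (B 1 1 - B 0 0) * c2 - (C 1 1 - C 0 0) * b2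
        · linear_combination (B 1 1 - B 0 0) * c3 - (C 1 1 - C 0 0) * b3
      · refine ⟨mul_left_cancel₀ h2 ?_, mul_left_cancel₀ h2 ?_, mul_left_cancel₀ h2 ?_⟩
        · linear_combination B 1 0 * c1 - C 1 0 * b1
        · linear_combination B 0 1 * c3 - C 0 1 * b3 + (A 1 1 - A 0 0) * (mul_left_cancel₀ h2 (by linear_combination B 1 0 * c1 - C 1 0 * b1) : B 0 1 * C 1 0 = C 0 1 * B 1 0)
        · linear_combination B 1 0 * c3 - C 1 0 * b3
    · refine ⟨mul_left_cancel₀ h1 ?_, mul_left_cancel₀ h1 ?_, mul_left_cancel₀ h1 ?_⟩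
      · linear_combination B 0 1 * c1 - C 0 1 * b1
      · linear_combination B 0 1 * c2 - C 0 1 * b2
      · linear_combination B 1 0 * c2 - C 1 0 * b2 - (A 1 1 - A 0 0) * (mul_left_cancel₀ h1 (by linear_combination B 0 1 * c1 - C 0 1 * b1) : B 0 1 * C 1 0 = C 0 1 * B 1 0)
  obtain ⟨a, b, c, d⟩ := mul_apply_two B C
  obtain ⟨a', b', c', d'⟩ := mul_apply_two C B
  refine ext_two ?_ ?_ ?_ ?_
  · rw [a, a']; linear_combination h.1
  · rw [b, b']; linear_combination h.2.1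
  · rw [c, c']; linear_combination -h.2.2
  · rw [d, d']; linear_combination -h.1

theorem pr_commute {A B : SL2} (h : pr A * pr B = pr B * pr A) :
    A * B = B * A ∨ A * B = -(B * A) := by
  rcases (pr_eq_iff (A * B) (B * A)).1 (by simpa [pr] using h) with e | e
  · exact Or.inl e.symm
  · exact Or.inr (by rw [e, neg_neg])

/-- An element of trace non-zero commutes with a lift if it commutes projectively. -/
theorem lift_commute {A B : SL2} (ht : tr A ≠ 0) (h : pr A * pr B = pr B * pr A) :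
    A * B = B * A := by
  rcases pr_commute h with e | e
  · exact e
  · rcases eq_or_ne (2 : F) 0 with h2 | h2
    · rw [e]
      refine ext_two ?_ ?_ ?_ ?_ <;> rw [neg_apply_two] <;> linear_combination -(B * A) _ _ * h2
    · exfalso
      have h1 : tr (B⁻¹ * (A * B)) = tr A := by rw [tr_mul_comm, mul_inv_cancel_right]
      rw [e, mul_neg, ← mul_assoc, inv_mul_cancel, one_mul, tr_neg] at h1
      exact ht (mul_left_cancel₀ h2 (by linear_combination -h1))

theorem anticommute_tr {A B : SL2} (h2 : (2 : F) ≠ 0) (e : A * B = -(B * A)) : tr A = 0 := by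
  have h1 : tr (B⁻¹ * (A * B)) = tr A := by rw [tr_mul_comm, mul_inv_cancel_right]
  rw [e, mul_neg, ← mul_assoc, inv_mul_cancel, one_mul, tr_neg] at h1
  exact mul_left_cancel₀ h2 (by linear_combination -h1)

/-- An element commuting projectively with two non-commuting lifts is trivial. -/
theorem eq_one_of_commute_two {A Y : SL2} (hA : tr A ≠ 0) (hY : tr Y ≠ 0) (hne : A * Y ≠ Y * A)
    {g : 𝔾} (h1 : pr A * g = g * pr A) (h2 : pr Y * g = g * pr Y) : g = 1 := by
  obtain ⟨G, rfl⟩ := QuotientGroup.mk_surjective g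
  refine (pr_eq_one_iff G).2 (by_contra fun hG => hne ?_)
  exact commute_of_commute hG (lift_commute hA h1).symm (lift_commute hY h2).symm

variable [Fintype F]

/-- Regular elements with the same trace up to sign are conjugate. -/
theorem exists_conj_of_tr {A B : SL2} (h4 : tr A ^ 2 ≠ 4) (h : tr B = tr A ∨ tr B = -tr A) :
    ∃ c : 𝔾, c * pr A * c⁻¹ = pr B := by
  have key : ∀ B' : SL2, tr B' = tr A → ∃ c : 𝔾, c * pr A * c⁻¹ = pr B' := by
    intro B' hB'
    obtain ⟨c, hc⟩ := isConj_iff.1 (SLTwo.isConj_of_trace_eq (M := A) (N := B')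
      (Or.inr (by rwa [trace_eq_tr])) ((not_scal_iff A).1 fun hs => h4 (tr_sq_eq_four_of_scal hs))
      ((not_scal_iff B').1 fun hs => h4 (hB' ▸ tr_sq_eq_four_of_scal hs))
      (by rw [trace_eq_tr, trace_eq_tr, hB']))
    exact ⟨pr c, by rw [← hc]; rfl⟩
  rcases h with h | h
  · exact key B h
  · obtain ⟨c, hc⟩ := key (-B) (by rw [tr_neg, h, neg_neg])
    exact ⟨c, hc.trans ((pr_eq_iff _ _).2 (Or.inr (neg_neg B).symm))⟩

/-- A triangle of lifts with prescribed traces which do not commute. -/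
theorem exists_triangle (t₁ t₂ t₃ : F) (h4 : t₁ ^ 2 ≠ 4)
    (hF : t₁ ^ 2 + t₂ ^ 2 + t₃ ^ 2 - t₁ * t₂ * t₃ - 4 ≠ 0) :
    ∃ Y L : SL2, tr Y = t₁ ∧ tr L = t₂ ∧ tr (Y * L) = t₃ ∧ Y * L ≠ L * Y := by
  have hΔ : 4 - t₁ ^ 2 ≠ 0 := sub_ne_zero.2 (Ne.symm h4)
  set u := t₁ * t₂ - t₃ with hu
  set a₀ := (2 * t₂ - t₁ * u) / (4 - t₁ ^ 2) with ha₀
  set b₀ := (t₁ * t₂ - 2 * u) / (4 - t₁ ^ 2) with hb₀
  have c1 : 2 * a₀ - t₁ * b₀ - t₂ = 0 := by rw [ha₀, hb₀]; field_simp; ring
  have c2 : -(t₁ * a₀) + 2 * b₀ + u = 0 := by rw [ha₀, hb₀]; field_simp; ring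
  obtain ⟨α, β, hαβ⟩ := SLTwo.exists_form_eq (-t₁) (Or.inr (by rwa [neg_sq]))
    (-(a₀ ^ 2 + b₀ ^ 2 - t₁ * a₀ * b₀ - t₂ * a₀ + u * b₀ + 1))
  set a := a₀ + α with ha
  set b := b₀ + β with hb
  set c := b + u - t₁ * a with hc
  have hQ : a * (t₂ - a) - b * c = 1 := by
    rw [hc, ha, hb]
    linear_combination -hαβ - α * c1 - β * c2
  obtain ⟨Y, hY⟩ : ∃ Y : SL2, (Y : M2) = !![0, -1; 1, t₁] :=
    ⟨⟨_, by simp [Matrix.det_fin_two]⟩, rfl⟩
  obtain ⟨L, hL⟩ : ∃ L : SL2, (L : M2) = !![a, b; c, t₂ - a] :=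
    ⟨⟨_, by simpa [Matrix.det_fin_two] using hQ⟩, rfl⟩
  obtain ⟨m0, m1, -, m3⟩ := mul_apply_two Y L
  obtain ⟨n0, n1, -, -⟩ := mul_apply_two L Y
  refine ⟨Y, L, ?_, ?_, ?_, ?_⟩
  · simp [tr, hY]
  · simp [tr, hL]
  · rw [tr, m0, m3]
    simp [hY, hL, hc, hu]; ring
  · intro h
    have e1 := congrArg (fun M : SL2 => M 0 0) h
    have e2 := congrArg (fun M : SL2 => M 0 1) h
    simp only [m0, n0, m1, n1] at e1 e2
    simp [hY, hL] at e1 e2
    have hc' : c = -b := by linear_combination -e1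
    have ht2 : t₂ = 2 * a - b * t₁ := by linear_combination -e2
    have ht3 : t₃ = 2 * b + t₁ * (a - b * t₁) := by
      rw [hc, hu] at hc'
      linear_combination -hc' + t₁ * ht2
    refine hF ?_
    rw [hc', ht2] at hQ
    rw [ht2, ht3]
    linear_combination (4 - t₁ ^ 2) * hQ

/-- A reducible triangle of elements of order three in characteristic two. -/
theorem exists_triangle_omega {w : F} (h2 : (2 : F) = 0) (hw : w * w + w + 1 = 0) :
    ∃ Y L : SL2, tr Y = 1 ∧ tr L = 1 ∧ tr (Y * L) = 1 ∧ Y * L ≠ L * Y := by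
  have hd : w * (w + 1) = 1 := by linear_combination hw - h2
  obtain ⟨Y, hY⟩ : ∃ Y : SL2, (Y : M2) = !![w, 0; 0, w + 1] :=
    ⟨⟨_, by simpa [Matrix.det_fin_two] using hd⟩, rfl⟩
  obtain ⟨L, hL⟩ : ∃ L : SL2, (L : M2) = !![w, 1; 0, w + 1] :=
    ⟨⟨_, by simpa [Matrix.det_fin_two] using hd⟩, rfl⟩
  obtain ⟨m0, m1, -, m3⟩ := mul_apply_two Y L
  obtain ⟨n0, n1, -, -⟩ := mul_apply_two L Y
  refine ⟨Y, L, ?_, ?_, ?_, ?_⟩
  · simp [tr, hY]; linear_combination w * h2
  · simp [tr, hL]; linear_combination w * h2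
  · rw [tr, m0, m3]
    simp [hY, hL]; linear_combination 2 * hw + (-1 : F) * h2
  · intro h
    have e2 := congrArg (fun M : SL2 => M 0 1) h
    simp only [m1, n1] at e2
    simp [hY, hL] at e2

/-- Trace `t` allows a triangle of conjugates. -/
theorem exists_triangle_same {t : F} (h0 : t ≠ 0) (h4 : t ^ 2 ≠ 4)
    (hex : (2 : F) ≠ 0 ∨ t ≠ 1 ∨ ∃ w : F, w * w + w + 1 = 0) :
    ∃ Y L : SL2, tr Y = t ∧ tr L = t ∧ (tr (Y * L) = t ∨ tr (Y * L) = -t) ∧ Y * L ≠ L * Y := by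
  by_cases he : t + 1 ≠ 0
  · have h2t : t - 2 ≠ 0 := fun h => h4 (by linear_combination (t + 2) * h)
    obtain ⟨Y, L, a, b, c, d⟩ := exists_triangle t t t h4 (fun h => by
      have : -((t + 1) * ((t - 2) * (t - 2))) = 0 := by linear_combination h
      simp [he, h2t] at this)
    exact ⟨Y, L, a, b, Or.inl c, d⟩
  · replace he : t = -1 := by linear_combination not_not.1 he
    by_cases h2 : (2 : F) = 0
    · have ht1 : t = 1 := by linear_combination he + (-1 : F) * h2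
      rcases hex with h | h | ⟨w, hw⟩
      · exact absurd h2 h
      · exact absurd ht1 h
      · obtain ⟨Y, L, a, b, c, d⟩ := exists_triangle_omega h2 hw
        exact ⟨Y, L, ht1 ▸ a, ht1 ▸ b, Or.inl (ht1 ▸ c), d⟩
    · have hm : t + 2 ≠ 0 := fun h => h4 (by linear_combination (t - 2) * h)
      have h1m : 1 - t ≠ 0 := fun h => h2 (by linear_combination h + he)
      obtain ⟨Y, L, a, b, c, d⟩ := exists_triangle t t (-t) h4 (fun h => by
        have : -((1 - t) * ((t + 2) * (t + 2))) = 0 := by linear_combination h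
        simp [h1m, hm] at this)
      exact ⟨Y, L, a, b, Or.inr c, d⟩

/-- If everything in all conjugates through `x` commutes with `x`, the action is not binary. -/
theorem not_binary_of_good {H : Subgroup 𝔾} (hb : IsBinary H) (X : SL2) (hX : pr X ∈ H)
    (hX0 : tr X ≠ 0) (hX4 : tr X ^ 2 ≠ 4)
    (hgood : ∀ g, InAll H (pr X) g → pr X * g = g * pr X)
    (hex : (2 : F) ≠ 0 ∨ tr X ≠ 1 ∨ ∃ w : F, w * w + w + 1 = 0) : False := by
  obtain ⟨Y, L, hY, hL, hA, hne⟩ := exists_triangle_same hX0 hX4 hex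
  have good : ∀ Z : SL2, (tr Z = tr X ∨ tr Z = -tr X) → tr Z ≠ 0 ∧
      (∃ p : 𝔾, p⁻¹ * pr Z * p ∈ H) ∧ ∀ g, InAll H (pr Z) g → pr Z * g = g * pr Z := by
    intro Z hZ
    refine ⟨by rcases hZ with e | e <;> simp [e, hX0], ?_⟩
    obtain ⟨c, hc⟩ := exists_conj_of_tr hX4 hZ
    refine ⟨⟨c, by rw [← hc]; simpa [mul_assoc] using hX⟩, fun g hg => ?_⟩
    have hg' : InAll H (pr X) (c⁻¹ * g * c) := by
      rw [← inAll_conj_iff c, hc]
      simpa [mul_assoc] using hg
    have := congrArg (fun w => c * w * c⁻¹) (hgood _ hg')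
    rw [← hc]
    simpa [mul_assoc] using this
  obtain ⟨hA0, hAH, hAg⟩ := good (Y * L) hA
  obtain ⟨hY0, -, hYg⟩ := good Y (Or.inl hY)
  obtain ⟨hL0, -, hLg⟩ := good L (Or.inl hL)
  have hne' : Y * L * Y ≠ Y * (Y * L) := fun h => hne (by
    have h' : L * Y = Y * L := mul_left_cancel ((mul_assoc Y L Y).symm.trans h)
    exact h'.symm)
  have h := hb.triangle (pr (Y * L)) (pr Y) hAH fun g h1 h2 =>
    eq_one_of_commute_two hA0 hY0 hne' (hAg g h1) (hYg g h2)
  rw [show (pr Y)⁻¹ * pr (Y * L) = pr L from inv_mul_cancel_left (pr Y) (pr L)] at h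
  have h2 := lift_commute hL0 (hLg _ h)
  exact hne (mul_right_cancel ((h2.trans rfl).symm.trans (mul_assoc L Y L).symm).symm |>.symm)

end CfsgLib.BinaryPSL
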