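import Cfsg.Agent.Lib.BinaryPSL.Odd
import Cfsg.Agent.Lib.PSL2.MaxClassify

/-!
# Binary actions of `PSL₂(q)`, `q` even

Apart from the translation group and an irreducible group of order three, a stabiliser contains
either a regular element seen by all its conjugates only up to commutation, or a dihedral pattern in
which an involution and two rotations form a triangle.
-/

set_option autoImplicit false
set_option linter.unusedSectionVars false

namespace CfsgLib.BinaryPSL

open Matrix CfsgLib.BinaryAct OnePoint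

variable {F : Type*} [Field F]

local notation "SL2" => Matrix.SpecialLinearGroup (Fin 2) F
local notation "M2" => Matrix (Fin 2) (Fin 2) F
local notation "𝔾" => Matrix.ProjectiveSpecialLinearGroup (Fin 2) F

section charTwo

variable [CharP F 2] [Fintype F]

theorem neg_eq_self (A : SL2) : -A = A :=
  Subtype.ext (Matrix.ext fun i j => by
    show -A i j = A i j
    exact CharTwo.neg_eq _)

theorem pr_inj {A B : SL2} (h : pr A = pr B) : A = B := by
  rcases (pr_eq_iff A B).1 h with e | e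
  · exact e.symm
  · rw [e, neg_eq_self]

theorem four_zero : (4 : F) = 0 := by
  rw [show (4 : F) = 2 * 2 by norm_num, CharTwo.two_eq_zero, mul_zero]

theorem tr_sq_ne_four {A : SL2} : tr A ^ 2 ≠ 4 ↔ tr A ≠ 0 := by
  rw [four_zero, ne_eq, pow_eq_zero_iff two_ne_zero]

theorem eq_one_of_scal {A : SL2} (h : Scal A) : A = 1 :=
  pr_inj ((pr_eq_one_iff A).2 h)

theorem mul_self_iff {A : SL2} : A * A = 1 ↔ tr A = 0 := by
  constructor
  · intro h
    have := tr_sq A
    rw [h] at this
    have e : tr (1 : SL2) = 2 := by simp [tr]; norm_num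
    rw [e, CharTwo.two_eq_zero, sub_zero, eq_comm, mul_self_eq_zero] at this
    exact this
  · intro h
    rw [mul_self_of_tr_zero h, neg_eq_self]

theorem pr_mul_self_iff {A : SL2} : pr A * pr A = 1 ↔ tr A = 0 := by
  rw [← mul_self_iff]
  exact ⟨fun h => pr_inj (h.trans rfl), fun h => congrArg pr h⟩

theorem not_commute_tr {A X : SL2} (hA : tr A = 0) (hA1 : A ≠ 1) (hX : tr X ≠ 0) :
    A * X ≠ X * A := by
  intro e
  obtain ⟨a, b, c, -⟩ := mul_apply_two A X
  obtain ⟨a', b', c', -⟩ := mul_apply_two X A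
  rw [e] at a b c
  have h2 : (2 : F) = 0 := CharTwo.two_eq_zero
  have hA' : A 1 1 = A 0 0 := by rw [tr] at hA; linear_combination hA - A 0 0 * h2
  have e1 := b.symm.trans b'
  have e2 := c.symm.trans c'
  rw [hA'] at e1 e2
  refine hA1 (eq_one_of_scal ⟨?_, ?_, hA'.symm⟩)
  · exact mul_left_cancel₀ hX (by rw [tr]; linear_combination e1 + A 0 1 * X 0 0 * h2)
  · exact mul_left_cancel₀ hX (by rw [tr]; linear_combination -e2 + A 1 0 * X 0 0 * h2)

theorem tr_sq_mul (X Z : SL2) : tr (X * X * Z) = tr X * tr (X * Z) - tr Z := by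
  obtain ⟨a, -, -, d⟩ := mul_apply_two (X * X) Z
  obtain ⟨p, q, r, s⟩ := mul_apply_two X X
  obtain ⟨p', -, -, s'⟩ := mul_apply_two X Z
  simp only [tr, a, d, p, q, r, s, p', s']
  linear_combination -(Z 0 0 + Z 1 1) * det_eq X

theorem tr_mul_add (Y X : SL2) : tr (Y * X) + tr (Y * X⁻¹) = tr Y * tr X := by
  obtain ⟨a, -, -, d⟩ := mul_apply_two Y X
  obtain ⟨a', -, -, d'⟩ := mul_apply_two Y X⁻¹
  obtain ⟨p, q, r, s⟩ := inv_apply X
  simp only [tr, a, d, a', d', p, q, r, s]
  ring

theorem exists_ne_zero_one (h4 : 4 ≤ Fintype.card F) : ∃ l : F, l ≠ 0 ∧ l ≠ 1 := by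
  classical
  obtain ⟨l, -, hl⟩ := Finset.exists_mem_notMem_of_card_lt_card (s := ({0, 1} : Finset F))
    (t := Finset.univ) (by rw [Finset.card_univ]; exact (Finset.card_le_two).trans_lt (by omega))
  simp at hl
  exact ⟨l, hl⟩

/-- Involutions are conjugate. -/
theorem exists_conj_involution {A B : SL2} (hA : tr A = 0) (hA1 : A ≠ 1) (hB : tr B = 0)
    (hB1 : B ≠ 1) : ∃ C : SL2, C * A * C⁻¹ = B :=
  isConj_iff.1 (SpecLin.SLTwo.isConj_of_trace_eq (Or.inl CharTwo.two_eq_zero)
    ((not_scal_iff A).1 fun h => hA1 (eq_one_of_scal h))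
    ((not_scal_iff B).1 fun h => hB1 (eq_one_of_scal h)) (by rw [trace_eq_tr, trace_eq_tr, hA, hB]))


/-- An involution of `H` inverts the other elements. -/
theorem tr_mul_eq_zero {H : Subgroup 𝔾}
    (hab : ∀ X Y : SL2, pr X ∈ H → pr Y ∈ H → tr X ≠ 0 → tr Y ≠ 0 → X * Y = Y * X)
    {A X : SL2} (hA : pr A ∈ H) (hX : pr X ∈ H) (hA0 : tr A = 0) (hA1 : A ≠ 1)
    (hX0 : tr X ≠ 0) : tr (A * X) = 0 := by
  by_contra h
  have e := hab (A * X) X (mul_mem hA hX) hX h hX0
  exact not_commute_tr hA0 hA1 hX0 (mul_right_cancel (by rw [e, ← mul_assoc]))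

/-- An element in all conjugates through an involution is that involution. -/
theorem eq_of_inAll_involution {H : Subgroup 𝔾}
    (hab : ∀ X Y : SL2, pr X ∈ H → pr Y ∈ H → tr X ≠ 0 → tr Y ≠ 0 → X * Y = Y * X)
    (h4 : 4 ≤ Fintype.card F) {X : SL2} (hX : pr X ∈ H) (hX0 : tr X ≠ 0)
    {A : SL2} (hA : pr A ∈ H) (hA0 : tr A = 0) (hA1 : A ≠ 1) {G : SL2}
    (hG : InAll H (pr A) (pr G)) : G = 1 ∨ G = A := by
  have key : ∀ R : SL2, InAll H (pr A) (pr R) → tr R = 0 := by
    intro R hR
    by_contra hR0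
    obtain ⟨C, hC⟩ := exists_conj_involution hA0 hA1 (B := uT 1) (by simp [tr, CharTwo.add_self_eq_zero])
      (fun e => one_ne_zero (α := F) (by simpa using congrArg (fun M : SL2 => M 0 1) e))
    set R' := C * R * C⁻¹ with hR'
    have hcom : ∀ β : F, R' * (uT β * R' * uT β) = uT β * R' * uT β * R' := by
      intro β
      set U := C⁻¹ * uT β * C with hU
      have hUA : U * A = A * U := by
        have e : A = C⁻¹ * uT 1 * C := by rw [← hC]; group
        rw [hU, e]
        calc C⁻¹ * uT β * C * (C⁻¹ * uT 1 * C) = C⁻¹ * (uT β * uT 1) * C := by group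
          _ = C⁻¹ * (uT 1 * uT β) * C := by rw [uT_mul, uT_mul, add_comm]
          _ = _ := by group
      have hm : pr (U * R * U⁻¹) ∈ H :=
        (hR.conj_of_commute (c := pr U) (congrArg pr hUA : pr U * pr A = pr A * pr U)).mem hA
      have := hab R (U * R * U⁻¹) (hR.mem hA) hm hR0 (by rwa [tr_conj])
      have hUi : uT β = (uT β)⁻¹ := by rw [uT_inv, CharTwo.neg_eq]
      have e2 : uT β * R' * uT β = C * (U * R * U⁻¹) * C⁻¹ := by
        conv_lhs => arg 2; rw [hUi]
        rw [hR', hU]; group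
      rw [e2, hR']
      calc C * R * C⁻¹ * (C * (U * R * U⁻¹) * C⁻¹) = C * (R * (U * R * U⁻¹)) * C⁻¹ := by group
        _ = C * (U * R * U⁻¹ * R) * C⁻¹ := by rw [this]
        _ = _ := by group
    obtain ⟨l, hl0, hl1⟩ := exists_ne_zero_one h4
    have ht : tr R' ≠ 0 := by rwa [hR', tr_conj]
    have eqs : ∀ β : F, β * (R' 1 0 * tr R' + β * (R' 1 0 * R' 1 0)) = 0 ∧
        β * tr R' * (R' 0 0 - R' 1 1) + β ^ 2 * R' 1 0 * (R' 0 0 - R' 1 1) = 0 := by
      intro β
      have e00 := congrArg (fun M : SL2 => M 0 0) (hcom β)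
      have e01 := congrArg (fun M : SL2 => M 0 1) (hcom β)
      obtain ⟨a1, a2, a3, a4⟩ := mul_apply_two R' (uT β * R' * uT β)
      obtain ⟨b1, b2, b3, b4⟩ := mul_apply_two (uT β * R' * uT β) R'
      obtain ⟨c1, c2, c3, c4⟩ := mul_apply_two (uT β * R') (uT β)
      obtain ⟨d1, d2, d3, d4⟩ := mul_apply_two (uT β) R'
      obtain ⟨u1, u2, u3, u4⟩ := uT_apply β
      simp only [a1, a2, b1, b2, c1, c2, c3, c4, d1, d2, d3, d4, u1, u2, u3, u4] at e00 e01
      have h2 : (2 : F) = 0 := CharTwo.two_eq_zero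
      rw [tr]
      constructor
      · linear_combination -e00
      · linear_combination e01
    obtain ⟨p1, q1⟩ := eqs 1
    obtain ⟨pl, -⟩ := eqs l
    by_cases hc : R' 1 0 = 0
    · rw [hc, mul_zero, zero_mul, add_zero, one_mul] at q1
      refine ht (mul_self_eq_zero.1 ?_)
      have : R' 0 0 - R' 1 1 = tr R' := by rw [tr, CharTwo.sub_eq_add]
      rwa [this] at q1
    · have f1 : tr R' + R' 1 0 = 0 := mul_left_cancel₀ hc (by linear_combination p1)
      have fl : tr R' + l * R' 1 0 = 0 :=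
        mul_left_cancel₀ (mul_ne_zero hl0 hc) (by linear_combination pl)
      have : (l - 1) * R' 1 0 = 0 := by linear_combination fl - f1
      exact hc ((mul_eq_zero.1 this).resolve_left (sub_ne_zero.2 hl1))
  have hG0 := key G hG
  by_contra hne
  push Not at hne
  obtain ⟨hG1, hGA⟩ := hne
  have hAG : tr (A * G) = 0 := key (A * G) ((inAll_self H (pr A)).mul hG)
  have hGH := hG.mem hA
  have a1 := tr_mul_eq_zero hab hA hX hA0 hA1 hX0
  have g1 := tr_mul_eq_zero hab hGH hX hG0 hG1 hX0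
  have AA := mul_self_iff.2 hA0
  have GG := mul_self_iff.2 hG0
  refine not_commute_tr hAG (fun e => hGA ?_) hX0 ?_
  · calc G = A * A * G := by rw [AA, one_mul]
      _ = A := by rw [mul_assoc, e, mul_one]
  · -- both invert `X`
    have iA : A * X * A = X⁻¹ := eq_inv_of_mul_eq_one_left (by
      rw [mul_assoc (A * X)]; exact mul_self_iff.2 a1)
    have iG : G * X * G = X⁻¹ := eq_inv_of_mul_eq_one_left (by
      rw [mul_assoc (G * X)]; exact mul_self_iff.2 g1)
    calc A * G * X = A * (G * X * G) * G := by simp only [mul_assoc, GG, mul_one]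
      _ = A * X⁻¹ * A * A * G := by rw [iG, mul_assoc (A * X⁻¹) A A, AA, mul_one]
      _ = (A * X * A)⁻¹ * (A * G) := by
          rw [_root_.mul_inv_rev, _root_.mul_inv_rev, inv_eq_of_mul_eq_one_right AA]; group
      _ = X * (A * G) := by rw [iA, inv_inv]

/-- Two regular elements with involutory product make a triangle. -/
theorem not_binary_involution_triangle {H : Subgroup 𝔾}
    (hab : ∀ X Y : SL2, pr X ∈ H → pr Y ∈ H → tr X ≠ 0 → tr Y ≠ 0 → X * Y = Y * X)
    (hb : IsBinary H) (h4 : 4 ≤ Fintype.card F) {X A₀ : SL2}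
    (hX : pr X ∈ H) (hX0 : tr X ≠ 0) (hA : pr A₀ ∈ H) (hA0 : tr A₀ = 0) (hA1 : A₀ ≠ 1)
    {Y L : SL2} (hY : tr Y ≠ 0) (hL : tr L ≠ 0) (hYL : tr (Y * L) = 0) (hne : Y * L ≠ L * Y)
    (hYH : ∃ p : 𝔾, p⁻¹ * pr Y * p ∈ H) (hLH : ∃ p : 𝔾, p⁻¹ * pr L * p ∈ H) : False := by
  set A := Y * L with hAdef
  have hA'1 : A ≠ 1 := fun e => hne (e.trans (mul_eq_one_comm.1 e).symm)
  obtain ⟨C, hC⟩ := exists_conj_involution hA0 hA1 hYL hA'1
  have hAH : ∃ p : 𝔾, p⁻¹ * pr A * p ∈ H := ⟨pr C, by
    show pr (C⁻¹ * A * C) ∈ H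
    rwa [← hC, show C⁻¹ * (C * A₀ * C⁻¹) * C = A₀ by group]⟩
  have hD : ∀ G : SL2, InAll H (pr A) (pr G) → G = 1 ∨ G = A := by
    intro G hG
    have h' : InAll H (pr A₀) (pr (C⁻¹ * G * C)) := by
      rw [← inAll_conj_iff (pr C)]
      show InAll H (pr (C * A₀ * C⁻¹)) (pr (C * (C⁻¹ * G * C) * C⁻¹))
      rwa [hC, show C * (C⁻¹ * G * C) * C⁻¹ = G by group]
    rcases eq_of_inAll_involution hab h4 hX hX0 hA hA0 hA1 h' with e | e
    · left
      calc G = C * (C⁻¹ * G * C) * C⁻¹ := by group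
        _ = 1 := by rw [e]; group
    · right
      rw [← hC, ← e]; group
  have hnot : ∀ Z : SL2, tr Z ≠ 0 → tr (A * Z) ≠ 0 → (∃ p : 𝔾, p⁻¹ * pr Z * p ∈ H) →
      ¬ InAll H (pr Z) (pr A) := by
    rintro Z hZ hAZ ⟨p, hp⟩ hin
    obtain ⟨P, rfl⟩ := QuotientGroup.mk_surjective p
    have h1 : pr (P⁻¹ * A * P) ∈ H := hin _ hp
    have h2 : pr (P⁻¹ * Z * P) ∈ H := hp
    have e : ∀ M : SL2, tr (P⁻¹ * M * P) = tr M := fun M => by
      simpa using tr_conj P⁻¹ M
    have := tr_mul_eq_zero hab h1 h2 (by rw [e, hYL]) (fun h => hA'1 (by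
      calc A = P * (P⁻¹ * A * P) * P⁻¹ := by group
        _ = 1 := by rw [h]; group)) (by rwa [e])
    rw [show P⁻¹ * A * P * (P⁻¹ * Z * P) = P⁻¹ * (A * Z) * P by group, e] at this
    exact hAZ this
  have hAY : tr (A * Y) ≠ 0 := by
    rw [tr_mul_comm, hAdef, ← mul_assoc, tr_sq_mul, ← hAdef, hYL, mul_zero, zero_sub, neg_ne_zero]
    exact hL
  have hAL : tr (A * L) ≠ 0 := by
    rw [hAdef, mul_assoc, tr_mul_comm, tr_sq_mul, tr_mul_comm L Y, ← hAdef, hYL, mul_zero, zero_sub,
      neg_ne_zero]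
    exact hY
  have h := hb.triangle (pr A) (pr Y) hAH fun g h1 h3 => by
    obtain ⟨G, rfl⟩ := QuotientGroup.mk_surjective g
    rcases hD G h1 with e | e
    · show pr G = 1
      rw [e]; rfl
    · exact absurd (show InAll H (pr Y) (pr A) from e ▸ h3) (hnot Y hY hAY hYH)
  rw [show (pr Y)⁻¹ * pr A = pr L from inv_mul_cancel_left (pr Y) (pr L)] at h
  exact hnot L hL hAL hLH h

/-- The irreducible group of order six. -/
theorem not_binary_order_three {H : Subgroup 𝔾}
    (hab : ∀ X Y : SL2, pr X ∈ H → pr Y ∈ H → tr X ≠ 0 → tr Y ≠ 0 → X * Y = Y * X)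
    (hb : IsBinary H) (h4 : 4 ≤ Fintype.card F)
    (hw : ¬ ∃ w : F, w * w + w + 1 = 0) {X S : SL2} (hX : pr X ∈ H) (hX0 : tr X ≠ 0)
    (hall : ∀ Y : SL2, pr Y ∈ H → tr Y ≠ 0 → tr Y = 1)
    (hS : pr S ∈ H) (hS0 : tr S = 0) (hS1 : S ≠ 1) : False := by
  classical
  have hX1 := hall X hX hX0
  have hSX := not_commute_tr hS0 hS1 hX0
  have SS := mul_self_iff.2 hS0
  have hrot : ∀ Y : SL2, pr Y ∈ H → tr Y ≠ 0 → Y = X ∨ Y = X⁻¹ := by
    intro Y hY hY0
    have hc := hab Y X hY hX hY0 hX0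
    have hone : ∀ Z : SL2, tr Z = 0 → Z * X = X * Z → Z = 1 := fun Z h0 hZ =>
      by_contra fun h1 => not_commute_tr h0 h1 hX0 hZ
    have hsum := tr_mul_add Y X
    rw [hall Y hY hY0, hX1, mul_one] at hsum
    have hc1 : pr (Y * X) ∈ H := mul_mem hY hX
    by_cases h1 : tr (Y * X) = 0
    · exact Or.inr (eq_inv_of_mul_eq_one_left
        (hone _ h1 (by rw [hc, mul_assoc, hc])))
    · rw [hall _ hc1 h1] at hsum
      refine Or.inl (mul_inv_eq_one.1 (hone _ (by linear_combination hsum) ?_))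
      rw [inv_mul_cancel_right, ← mul_assoc, ← hc, mul_inv_cancel_right]
  have hinv : ∀ T : SL2, pr T ∈ H → tr T = 0 → T ≠ 1 → T = S ∨ T = S * X ∨ T = S * X⁻¹ := by
    intro T hT hT0 hT1
    have eT : T = S * (S * T) := by rw [← mul_assoc, SS, one_mul]
    by_cases h : tr (S * T) = 0
    · left
      by_contra hne
      refine not_commute_tr h (fun e => hne (by rw [eT, e, mul_one])) hX0 ?_
      have TT := mul_self_iff.2 hT0
      have iS : S * X * S = X⁻¹ := eq_inv_of_mul_eq_one_left (by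
        rw [mul_assoc (S * X)]; exact mul_self_iff.2 (tr_mul_eq_zero hab hS hX hS0 hS1 hX0))
      have iT : T * X * T = X⁻¹ := eq_inv_of_mul_eq_one_left (by
        rw [mul_assoc (T * X)]; exact mul_self_iff.2 (tr_mul_eq_zero hab hT hX hT0 hT1 hX0))
      calc S * T * X = S * (T * X * T) * T := by simp only [mul_assoc, TT, mul_one]
        _ = S * (S * X * S) * T := by rw [iT, iS]
        _ = X * (S * T) := by simp only [← mul_assoc, SS, one_mul]
    · rcases hrot (S * T) (show pr S * pr T ∈ H from mul_mem hS hT) h with e | e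
      · exact Or.inr (Or.inl (by rw [eT, e]))
      · exact Or.inr (Or.inr (by rw [eT, e]))
  have hD : ∀ T : SL2, pr T ∈ H → tr T = 0 → T ≠ 1 →
      ∀ g, InAll H (pr T) g → g = 1 ∨ g = pr T := by
    intro T hT h0 h1 g hg
    obtain ⟨G, rfl⟩ := QuotientGroup.mk_surjective g
    rcases eq_of_inAll_involution hab h4 hX hX0 hT h0 h1 hg with e | e
    · left; rw [e]; rfl
    · right; rw [e]
  -- the centraliser of `X` is too large for `S` to be in all conjugates through `X`
  have hnot : ¬ InAll H (pr X) (pr S) := by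
    intro hin
    have hd : ∀ l : F, l * l + l + 1 ≠ 0 := fun l h => hw ⟨l, h⟩
    have hdet : ∀ l : F, ((1 + l / (l * l + l + 1)) • (1 : M2) +
        (1 / (l * l + l + 1)) • (X : M2)).det = 1 := by
      intro l
      have := hd l
      have h2 : (2 : F) = 0 := CharTwo.two_eq_zero
      have hXd := det_eq X
      have hXt : X 1 1 = 1 - X 0 0 := by rw [tr] at hX1; linear_combination hX1
      rw [hXt] at hXd
      have key : (1 + l / (l * l + l + 1)) ^ 2 + (1 + l / (l * l + l + 1)) * (1 / (l * l + l + 1)) +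
          (1 / (l * l + l + 1)) ^ 2 = 1 := by
        generalize hDe : l * l + l + 1 = D at *
        field_simp
        linear_combination ((l + 1) * D) * h2 + hDe
      rw [Matrix.det_fin_two]
      simp only [Matrix.add_apply, Matrix.smul_apply, smul_eq_mul, Matrix.one_apply_eq, hXt,
        Matrix.one_apply_ne (show (0 : Fin 2) ≠ 1 by decide),
        Matrix.one_apply_ne (show (1 : Fin 2) ≠ 0 by decide)]
      linear_combination key + (1 / (l * l + l + 1)) ^ 2 * hXd
    let P : F → SL2 := fun l => ⟨_, hdet l⟩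
    have hPe : ∀ l i j, P l i j = (1 + l / (l * l + l + 1)) * (1 : M2) i j +
        1 / (l * l + l + 1) * X i j := fun l i j => by simp [P]
    have hPX : ∀ l, P l * X = X * P l := fun l => Subtype.ext (by
      simp only [Matrix.SpecialLinearGroup.coe_mul]
      simp [P, add_mul, mul_add])
    have hPinj : Function.Injective P := by
      intro l m e
      have ee : ∀ i j, (1 + l / (l * l + l + 1)) * (1 : M2) i j + 1 / (l * l + l + 1) * X i j =
          (1 + m / (m * m + m + 1)) * (1 : M2) i j + 1 / (m * m + m + 1) * X i j := fun i j => by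
        rw [← hPe, ← hPe, e]
      have hns : ¬ Scal X := fun h => hX0 (by
        have := tr_sq_eq_four_of_scal h
        rw [four_zero, pow_eq_zero_iff two_ne_zero] at this
        exact this)
      have hb' : 1 / (l * l + l + 1) = 1 / (m * m + m + 1) := by
        by_contra hne
        have hne' := sub_ne_zero.2 hne
        refine hns ⟨mul_left_cancel₀ hne' ?_, mul_left_cancel₀ hne' ?_, mul_left_cancel₀ hne' ?_⟩
        · have := ee 0 1
          simp only [Matrix.one_apply_ne (show (0 : Fin 2) ≠ 1 by decide)] at this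
          linear_combination this
        · have := ee 1 0
          simp only [Matrix.one_apply_ne (show (1 : Fin 2) ≠ 0 by decide)] at this
          linear_combination this
        · have h00 := ee 0 0
          have h11 := ee 1 1
          simp only [Matrix.one_apply_eq] at h00 h11
          linear_combination h00 - h11
      have ha := ee 0 0
      rw [hb'] at ha
      simp at ha
      have hdl := hd l
      have hdm := hd m
      have hdd : l * l + l + 1 = m * m + m + 1 := by
        simpa [one_div] using hb'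
      rw [hdd] at ha
      exact mul_right_cancel₀ (inv_ne_zero hdm) (by simpa [div_eq_mul_inv] using ha)
    let f : F → SL2 := fun l => (P l)⁻¹ * S * P l
    have hf : Function.Injective f := by
      intro l m e
      apply hPinj
      by_contra hne
      set Q := P l * (P m)⁻¹ with hQ
      have hQ1 : ¬ Scal Q := fun h => hne (mul_inv_eq_one.1 (eq_one_of_scal h))
      have hQS : Q * S = S * Q := by
        have e' : (P l)⁻¹ * S * P l = (P m)⁻¹ * S * P m := e
        calc Q * S = P l * ((P m)⁻¹ * S * P m) * (P m)⁻¹ := by rw [hQ]; group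
          _ = S * Q := by rw [← e', hQ]; group
      have hQX : Q * X = X * Q :=
        ((show Commute (P l) X from hPX l).mul_left (show Commute (P m) X from hPX m).inv_left).eq
      exact hSX (commute_of_commute hQ1 hQS hQX)
    have hmem : ∀ l, f l ∈ ({S, S * X, S * X⁻¹} : Finset SL2) := by
      intro l
      have h1 : pr (f l) ∈ H := hin (pr (P l)) (by
        show pr ((P l)⁻¹ * X * P l) ∈ H
        rwa [mul_assoc, ← hPX, inv_mul_cancel_left])
      have e : tr (f l) = 0 := by
        show tr ((P l)⁻¹ * S * P l) = 0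
        simpa [hS0] using tr_conj (P l)⁻¹ S
      have hn : f l ≠ 1 := fun e' => hS1 (by
        calc S = P l * f l * (P l)⁻¹ := by simp only [f]; group
          _ = 1 := by rw [e']; group)
      simpa using hinv _ h1 e hn
    have := (Finset.card_le_card_of_injOn f (s := Finset.univ) (fun l _ => hmem l)
      fun a _ b _ h => hf h).trans Finset.card_le_three
    rw [Finset.card_univ] at this
    omega
  have hSH : ∃ p : 𝔾, p⁻¹ * pr S * p ∈ H := ⟨1, by simpa using hS⟩
  have h := hb.triangle (pr S) (pr X) hSH fun g h1 h3 => by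
    rcases hD S hS hS0 hS1 g h1 with e | e
    · exact e
    · exact absurd (e ▸ h3) hnot
  have hl : pr (X⁻¹ * S) ∈ H := mul_mem (inv_mem hX) hS
  have hl0 : tr (X⁻¹ * S) = 0 := by
    rw [tr_mul_comm]
    have := tr_mul_add S X
    rw [tr_mul_eq_zero hab hS hX hS0 hS1 hX0, hS0, zero_mul, zero_add] at this
    exact this
  have hl1 : X⁻¹ * S ≠ 1 := fun e => hSX (by rw [← inv_mul_eq_one.1 e])
  rcases hD _ hl hl0 hl1 _ h with e | e
  · exact hS1 (pr_inj e)
  · exact hX0 (by
      have : X = 1 := by simpa using (pr_inj e : S = X⁻¹ * S)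
      rw [this, tr]; simp [CharTwo.add_self_eq_zero])

/-- Dihedral stabilisers give no binary action. -/
theorem not_binary_dihedral {H : Subgroup 𝔾} (hb : IsBinary H) (h4 : 4 ≤ Fintype.card F)
    (hab : ∀ X Y : SL2, pr X ∈ H → pr Y ∈ H → tr X ≠ 0 → tr Y ≠ 0 → X * Y = Y * X)
    {X₀ S : SL2} (hX₀ : pr X₀ ∈ H) (hX₀0 : tr X₀ ≠ 0) (hS : pr S ∈ H) (hS0 : tr S = 0)
    (hS1 : S ≠ 1) : False := by
  have conjMem : ∀ {Y X : SL2}, pr X ∈ H → tr X ≠ 0 → tr Y = tr X →
      ∃ p : 𝔾, p⁻¹ * pr Y * p ∈ H := by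
    intro Y X hX hX0 e
    obtain ⟨c, hc⟩ := exists_conj_of_tr (tr_sq_ne_four.2 hX0) (Or.inl e)
    exact ⟨c, by rw [← hc]; simpa [mul_assoc] using hX⟩
  by_cases ht : ∃ X : SL2, pr X ∈ H ∧ tr X ≠ 0 ∧ tr X ≠ 1
  · obtain ⟨X, hX, hX0, hX1⟩ := ht
    have h2 : (2 : F) = 0 := CharTwo.two_eq_zero
    have hXX : tr (X * X) = tr X ^ 2 := by rw [tr_sq, sq]; linear_combination -h2
    obtain ⟨Y, L, hY, hL, hYL, hne⟩ := exists_triangle (tr X) (tr X ^ 2) 0 (tr_sq_ne_four.2 hX0)
      (fun h => by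
        have e : (tr X * (1 + tr X)) ^ 2 = 0 := by
          linear_combination h + (2 + tr X ^ 3) * h2
        rw [pow_eq_zero_iff two_ne_zero, mul_eq_zero] at e
        rcases e with e | e
        · exact hX0 e
        · exact hX1 (by linear_combination e - h2))
    exact not_binary_involution_triangle hab hb h4 hX hX0 hS hS0 hS1 (hY ▸ hX0)
      (hL ▸ pow_ne_zero 2 hX0) hYL hne (conjMem hX hX0 hY)
      (conjMem (show pr (X * X) ∈ H from mul_mem hX hX) (hXX ▸ pow_ne_zero 2 hX0) (hL.trans hXX.symm))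
  push Not at ht
  by_cases hw : ∃ w : F, w * w + w + 1 = 0
  · obtain ⟨w, hw⟩ := hw
    have h2 : (2 : F) = 0 := CharTwo.two_eq_zero
    have hw0 : w ≠ 0 := by rintro rfl; simp at hw
    have hwi : w⁻¹ = w + 1 := inv_eq_of_mul_eq_one_right (by linear_combination hw - h2)
    have hX1 := ht X₀ hX₀ hX₀0
    have t1 : tr (dT w hw0 : SL2) = 1 := by
      simp [tr, hwi]; linear_combination w * h2
    set L := (dT w hw0 : SL2)⁻¹ * uT 1 with hLdef
    have tL : tr L = 1 := by
      obtain ⟨a, -, -, d⟩ := mul_apply_two (dT w hw0 : SL2)⁻¹ (uT 1)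
      obtain ⟨p, q, r, s⟩ := inv_apply (dT w hw0 : SL2)
      simp [tr, hLdef, a, d, p, q, r, s, hwi]
      linear_combination w * h2
    have hYL : (dT w hw0 : SL2) * L = uT 1 := mul_inv_cancel_left _ _
    refine not_binary_involution_triangle hab hb h4 hX₀ hX₀0 hS hS0 hS1 (t1 ▸ one_ne_zero)
      (tL ▸ one_ne_zero) (by rw [hYL]; simp [tr, CharTwo.add_self_eq_zero]) (fun e => ?_)
      (conjMem hX₀ hX₀0 (t1.trans hX1.symm)) (conjMem hX₀ hX₀0 (tL.trans hX1.symm))
    have e' : (uT 1 : SL2) * dT w hw0 = dT w hw0 * uT 1 := by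
      calc (uT 1 : SL2) * dT w hw0 = dT w hw0 * (L * dT w hw0) := by rw [← mul_assoc, hYL]
        _ = dT w hw0 * uT 1 := by rw [← e, hYL]
    exact not_commute_tr (A := (uT 1 : SL2)) (by simp [tr, CharTwo.add_self_eq_zero])
      (fun h => one_ne_zero (α := F) (by simpa using congrArg (fun M : SL2 => M 0 1) h))
      (t1 ▸ one_ne_zero) e'
  · exact not_binary_order_three hab hb h4 hw hX₀ hX₀0 ht hS hS0 hS1

/-- The elements with entries in a subfield. -/
def OverS (S : Subfield F) (M : SL2) : Prop := ∀ i j, M i j ∈ S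

/-- Projective maps come from `SL₂` in characteristic two. -/
theorem exists_sl_of_glHom [DecidableEq F] (A : GL (Fin 2) F) :
    ∃ (M : SL2) (d : F), d ≠ 0 ∧ d * d = (A : M2).det ∧ (∀ i j, M i j = d⁻¹ * (A : M2) i j) ∧
      PermSmall.Moebius.glHom F (SpecialLinearGroup.toGL M) = PermSmall.Moebius.glHom F A := by
  obtain ⟨d, hd⟩ := SpecLin.SLTwo.exists_sq_of_char_two (F := F) CharTwo.two_eq_zero (A : M2).det
  have hd0 : d ≠ 0 := by
    rintro rfl
    exact A.det_ne_zero (by rw [← hd]; simp)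
  obtain ⟨M, hM⟩ : ∃ M : SL2, (M : M2) = d⁻¹ • (A : M2) :=
    ⟨⟨_, by rw [Matrix.det_smul, Fintype.card_fin, ← hd]; field_simp⟩, rfl⟩
  refine ⟨M, d, hd0, by rw [← sq, hd], fun i j => by rw [hM]; rfl, ?_⟩
  have e : SpecialLinearGroup.toGL M = Units.map (Matrix.scalar (Fin 2)).toMonoidHom
      (Units.mk0 d hd0)⁻¹ * A := by
    refine Units.ext ?_
    ext i j
    show (M : M2) i j = (Matrix.scalar (Fin 2) ((Units.mk0 d hd0)⁻¹ : Fˣ).val * (A : M2)) i j
    rw [hM, Matrix.scalar_apply, Matrix.diagonal_mul]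
    simp
  rw [e, map_mul]
  have hz : Units.map (Matrix.scalar (Fin 2)).toMonoidHom (Units.mk0 d hd0)⁻¹ ∈
      (PermSmall.Moebius.glHom F).ker := by
    rw [PermSmall.Moebius.glHom_ker, GeneralLinearGroup.center_eq_range_scalar]
    exact ⟨_, rfl⟩
  rw [MonoidHom.mem_ker.1 hz, one_mul]

/-- A group defined over a subfield of the right order is conjugate to all of `SL₂` over it. -/
theorem exists_conj_overS [DecidableEq F] {H : Subgroup 𝔾} {S : Subfield F} [Fintype S]
    (hS : PSL2.DefinedOver ((PSL2.pglPerm F).comp (ProjectiveSpecialLinearGroup.toPGL.comp H.subtype)) S)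
    (hcard : Nat.card H = (Fintype.card S + 1) * (Fintype.card S * (Fintype.card S - 1))) :
    ∃ k : 𝔾, ∀ M : SL2, pr M ∈ H.map (MulAut.conj k).toMonoidHom ↔ OverS S M := by
  classical
  have : CharP S 2 := (RingHom.charP_iff_charP S.subtype 2).2 inferInstance
  obtain ⟨_, ⟨K, rfl⟩, hK⟩ := hS
  obtain ⟨K₀, -, -, -, -, hK₀⟩ := exists_sl_of_glHom K
  refine ⟨(pr K₀)⁻¹, ?_⟩
  set H' := H.map (MulAut.conj (pr K₀)⁻¹).toMonoidHom
  have hone : ∀ M : SL2, pr M ∈ H' → OverS S M := by
    intro M hM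
    obtain ⟨g, hg, e⟩ := hM
    obtain ⟨A, hA⟩ := hK ⟨g, hg⟩
    obtain ⟨N, d, -, hd, hN, hN'⟩ := exists_sl_of_glHom (A.map S.subtype)
    have hdS : d ∈ S := by
      obtain ⟨r, hr⟩ := SpecLin.SLTwo.exists_sq_of_char_two (F := S) CharTwo.two_eq_zero
        (A : Matrix (Fin 2) (Fin 2) S).det
      have h1 : d ^ 2 = (r : F) ^ 2 := by
        rw [sq, hd, ← SubmonoidClass.coe_pow, hr]
        exact (RingHom.map_det S.subtype _).symm
      rw [CharTwo.sq_inj] at h1
      exact h1 ▸ r.2
    have hMN : pr M = pr N := by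
      refine PSL2.pslPerm_injective (Equiv.ext fun z => ?_)
      rw [pr, pr, PSL2.pslPerm_mk, PSL2.pslPerm_mk, ← PermSmall.Moebius.glHom_apply,
        ← PermSmall.Moebius.glHom_apply, hN']
      have e' : PSL2.pslPerm F (QuotientGroup.mk M) =
          (PSL2.pslPerm F (pr K₀))⁻¹ * PSL2.pslPerm F g * PSL2.pslPerm F (pr K₀) := by
        have := congrArg (PSL2.pslPerm F) e
        rw [← this]
        simp
      have hp : ∀ N : SL2, PSL2.pslPerm F (pr N) = PermSmall.Moebius.glHom F (SpecialLinearGroup.toGL N) :=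
        fun N => Equiv.ext fun z => by rw [pr, PSL2.pslPerm_mk, PermSmall.Moebius.glHom_apply]
      rw [← hp M, show pr M = QuotientGroup.mk M from rfl, e', hp, hK₀]
      have hA' : PSL2.pslPerm F g = PermSmall.Moebius.glHom F K *
          PermSmall.Moebius.glHom F (A.map S.subtype) * (PermSmall.Moebius.glHom F K)⁻¹ := hA
      rw [hA']
      group
    intro i j
    rw [pr_inj hMN, hN]
    exact mul_mem (inv_mem hdS) ((A : Matrix (Fin 2) (Fin 2) S) i j).2
  let T : Type _ := {M : SL2 // OverS S M}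
  have hT : Nat.card T ≤ Nat.card H' := by
    have e : Nat.card T = Nat.card (Matrix.ProjectiveSpecialLinearGroup (Fin 2) S) := by
      refine Nat.card_congr (Equiv.ofBijective (fun M : T => pr
        (⟨Matrix.of fun i j => (⟨(M.1 : M2) i j, M.2 i j⟩ : S), by
          refine S.subtype.injective ?_
          rw [RingHom.map_det, map_one]
          exact M.1.2⟩ : Matrix.SpecialLinearGroup (Fin 2) S)) ⟨fun M N h => ?_, fun g => ?_⟩)
      · have := pr_inj h
        refine Subtype.ext (Subtype.ext (Matrix.ext fun i j => ?_))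
        exact congrArg Subtype.val (congrArg (fun X : Matrix.SpecialLinearGroup (Fin 2) S => X i j) this)
      · obtain ⟨X, rfl⟩ := QuotientGroup.mk_surjective g
        exact ⟨⟨SpecialLinearGroup.map S.subtype X, fun i j => (X i j).2⟩,
          congrArg pr (Subtype.ext (Matrix.ext fun i j => rfl))⟩
    have hS2 : Even (Fintype.card S) := by
      obtain ⟨n, -, hn⟩ := FiniteField.card S 2
      exact hn ▸ (Nat.even_pow).2 ⟨even_two, n.ne_zero⟩
    have := PSL2.card_psl (F := S)
    rw [PSL2.gcd_eq_one hS2, one_mul] at this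
    rw [e, this, ← hcard, Subgroup.card_map_of_injective (MulAut.conj (pr K₀)⁻¹).injective]
  intro M
  refine ⟨hone M, fun hM => ?_⟩
  let f : H' → T := fun h => ⟨(QuotientGroup.mk_surjective (h : 𝔾)).choose,
    hone _ (by rw [show pr _ = (h : 𝔾) from (QuotientGroup.mk_surjective (h : 𝔾)).choose_spec]; exact h.2)⟩
  have hf : Function.Injective f := fun a b e => Subtype.ext (by
    rw [← (QuotientGroup.mk_surjective (a : 𝔾)).choose_spec,
      ← (QuotientGroup.mk_surjective (b : 𝔾)).choose_spec]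
    exact congrArg (fun X : T => pr X.1) e)
  have : Finite T := Subtype.finite
  obtain ⟨h, e⟩ := (Nat.bijective_iff_injective_and_card f).2
    ⟨hf, le_antisymm (Nat.card_le_card_of_injective f hf) hT⟩ |>.2 ⟨M, hM⟩
  have : pr M = (h : 𝔾) :=
    (congrArg (fun X : T => pr X.1) e).symm.trans (QuotientGroup.mk_surjective (h : 𝔾)).choose_spec
  rw [this]; exact h.2

/-- Subfield subgroups give no binary action. -/
theorem not_binary_overS {H : Subgroup 𝔾} (hb : IsBinary H) (hH : H ≠ ⊤) (h4 : 4 ≤ Fintype.card F)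
    {S : Subfield F} (hS : ∀ M : SL2, pr M ∈ H ↔ OverS S M) : False := by
  classical
  have h2 : (2 : F) = 0 := CharTwo.two_eq_zero
  by_cases h3 : 3 ≤ Fintype.card S
  · obtain ⟨μ, hμ0, hμ1⟩ : ∃ μ : S, μ ≠ 0 ∧ μ ≠ 1 := by
      obtain ⟨l, -, hl⟩ := Finset.exists_mem_notMem_of_card_lt_card (s := ({0, 1} : Finset S))
        (t := Finset.univ) (by rw [Finset.card_univ]; exact (Finset.card_le_two).trans_lt (by omega))
      simp at hl
      exact ⟨l, hl⟩
    have hμ0' : (μ : F) ≠ 0 := fun h => hμ0 (Subtype.ext h)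
    set X : SL2 := dT (μ : F) hμ0'
    have hX : pr X ∈ H := (hS X).2 fun i j => by
      fin_cases i <;> fin_cases j <;> simp [X, zero_mem]
    have hX0 : tr X ≠ 0 := fun h => by
      simp [X, tr] at h
      have h1 : (μ : F) * μ = 1 := by
        field_simp at h
        linear_combination h - h2
      rcases mul_self_eq_one_iff.1 h1 with e | e
      · exact hμ1 (Subtype.ext e)
      · rw [CharTwo.neg_eq] at e; exact hμ1 (Subtype.ext e)
    obtain ⟨x, hx⟩ : ∃ x : F, x ∉ S := by
      by_contra! h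
      exact hH (eq_top_iff.2 fun g _ => by
        obtain ⟨M, rfl⟩ := QuotientGroup.mk_surjective g
        exact (hS M).2 fun i j => h _)
    obtain ⟨δ, hδ⟩ := SpecLin.SLTwo.exists_sq_of_char_two (F := F) h2 x
    have hδ0 : δ ≠ 0 := by rintro rfl; rw [zero_pow two_ne_zero] at hδ; exact hx (hδ ▸ zero_mem S)
    refine not_binary_of_good hb X hX hX0 (tr_sq_ne_four.2 hX0) (fun g hg => ?_) ?_
    · obtain ⟨G, rfl⟩ := QuotientGroup.mk_surjective g
      have hG := (hS G).1 (hg.mem hX)
      have hD : (dT δ hδ0)⁻¹ * X * dT δ hδ0 = X := by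
        obtain ⟨a1, a2, a3, a4⟩ := mul_apply_two ((dT δ hδ0)⁻¹ * X) (dT δ hδ0)
        obtain ⟨b1, b2, b3, b4⟩ := mul_apply_two (dT δ hδ0 : SL2)⁻¹ X
        obtain ⟨c1, c2, c3, c4⟩ := inv_apply (dT δ hδ0 : SL2)
        refine ext_two ?_ ?_ ?_ ?_ <;>
          simp only [a1, a2, a3, a4, b1, b2, b3, b4, c1, c2, c3, c4] <;> simp [X] <;> field_simp
      have hc := (hS ((dT δ hδ0)⁻¹ * G * dT δ hδ0)).1 (hg (pr (dT δ hδ0)) (by
        show pr ((dT δ hδ0)⁻¹ * X * dT δ hδ0) ∈ H
        rw [hD]; exact hX))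
      obtain ⟨a1, a2, a3, a4⟩ := mul_apply_two ((dT δ hδ0)⁻¹ * G) (dT δ hδ0)
      obtain ⟨b1, b2, b3, b4⟩ := mul_apply_two (dT δ hδ0 : SL2)⁻¹ G
      obtain ⟨c1, c2, c3, c4⟩ := inv_apply (dT δ hδ0 : SL2)
      have e01 := hc 0 1
      have e10 := hc 1 0
      rw [a2, b1, b2, c1, c2] at e01
      rw [a3, b3, b4, c3, c4] at e10
      simp at e01 e10
      have h01 : G 0 1 = 0 := by
        by_contra hne
        have hm := mul_mem (hG 0 1) (inv_mem e01)
        refine hx ?_
        rw [← hδ]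
        convert hm using 1
        field_simp
      have h10 : G 1 0 = 0 := by
        by_contra hne
        have hm := mul_mem e10 (inv_mem (hG 1 0))
        refine hx ?_
        rw [← hδ]
        convert hm using 1
        field_simp
      show pr (X * G) = pr (G * X)
      congr 1
      obtain ⟨p1, p2, p3, p4⟩ := mul_apply_two X G
      obtain ⟨q1, q2, q3, q4⟩ := mul_apply_two G X
      refine ext_two ?_ ?_ ?_ ?_ <;>
        simp only [p1, p2, p3, p4, q1, q2, q3, q4, h01, h10] <;> simp [X] <;> ring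
    · rcases eq_or_ne (tr X) 1 with e | e
      · refine Or.inr (Or.inr ⟨μ, ?_⟩)
        simp [X, tr] at e
        field_simp at e
        linear_combination e + (μ : F) * h2
      · exact Or.inr (Or.inl e)
  · have h01 : ∀ x ∈ S, x = 0 ∨ x = 1 := by
      intro x hx
      by_contra! h
      refine h3 ?_
      have hsub : ({0, 1, ⟨x, hx⟩} : Finset S).card ≤ Fintype.card S := Finset.card_le_univ _
      rwa [Finset.card_eq_three.2 ⟨0, 1, ⟨x, hx⟩, zero_ne_one,
        fun e => h.1 (congrArg Subtype.val e).symm, fun e => h.2 (congrArg Subtype.val e).symm, rfl⟩]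
        at hsub
    set P : SL2 := ⟨!![0, 1; 1, 1], by simp [Matrix.det_fin_two, CharTwo.neg_eq]⟩ with hP
    set P' : SL2 := ⟨!![1, 1; 1, 0], by simp [Matrix.det_fin_two, CharTwo.neg_eq]⟩ with hP'
    have hrot : ∀ X : SL2, pr X ∈ H → tr X ≠ 0 → X = P ∨ X = P' := by
      intro X hX hX0
      have hd := det_eq X
      rw [tr] at hX0
      rcases h01 _ ((hS X).1 hX 0 0) with a | a <;> rcases h01 _ ((hS X).1 hX 0 1) with b | b <;>
        rcases h01 _ ((hS X).1 hX 1 0) with c | c <;> rcases h01 _ ((hS X).1 hX 1 1) with d | d <;>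
        simp [a, b, c, d, CharTwo.add_self_eq_zero, CharTwo.neg_eq] at hd hX0 <;>
        first
          | exact Or.inl (ext_two a b c d)
          | exact Or.inr (ext_two a b c d)
    have hPP : P * P' = P' * P := by
      obtain ⟨a1, a2, a3, a4⟩ := mul_apply_two P P'
      obtain ⟨b1, b2, b3, b4⟩ := mul_apply_two P' P
      refine ext_two ?_ ?_ ?_ ?_ <;>
        simp only [a1, a2, a3, a4, b1, b2, b3, b4] <;> simp [hP, hP', CharTwo.add_self_eq_zero]
    refine not_binary_dihedral hb h4 (fun X Y hX hY hX0 hY0 => ?_)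
      (X₀ := P) (S := uT 1) ((hS P).2 fun i j => ?_) (by simp [hP, tr])
      ((hS _).2 fun i j => ?_) (by simp [tr, CharTwo.add_self_eq_zero])
      (fun h => one_ne_zero (α := F) (by simpa using congrArg (fun M : SL2 => M 0 1) h))
    · rcases hrot X hX hX0 with e | e <;> rcases hrot Y hY hY0 with e' | e' <;> rw [e, e']
      exacts [hPP, hPP.symm]
    · fin_cases i <;> fin_cases j <;> simp [hP, zero_mem, one_mem]
    · fin_cases i <;> fin_cases j <;> simp [zero_mem, one_mem]

/-- A translation group of order `q` is a Sylow subgroup. -/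
theorem exists_sylow_of_card {H : Subgroup 𝔾} (hc : Nat.card H = Fintype.card F) :
    ∃ P : Sylow 2 𝔾, H = P := by
  obtain ⟨n, -, hn⟩ := FiniteField.card F 2
  have he : Even (Fintype.card F) := hn ▸ (Nat.even_pow).2 ⟨even_two, n.ne_zero⟩
  have : Fact (Nat.Prime 2) := ⟨Nat.prime_two⟩
  have hi : ¬ 2 ∣ H.index := by
    have h := H.card_mul_index
    have hG := PSL2.card_psl (F := F)
    rw [PSL2.gcd_eq_one he, one_mul] at hG
    rw [hc, hG, mul_left_comm (Fintype.card F + 1)] at h
    have := Nat.eq_of_mul_eq_mul_left Fintype.card_pos h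
    rw [this, ← even_iff_two_dvd, Nat.even_mul]
    rw [Nat.even_iff] at he ⊢
    rw [Nat.even_iff]
    have := Fintype.one_lt_card (α := F)
    omega
  exact ⟨(IsPGroup.of_card (hc.trans hn)).toSylow hi, rfl⟩

/-- An upper triangular stabiliser is the translation group. -/
theorem card_eq_of_upper {H : Subgroup 𝔾} (hb : IsBinary H) (hne : H ≠ ⊥) (hup : UpperIn H) :
    Nat.card H = Fintype.card F := by
  have hu : ∀ M : SL2, pr M ∈ H → tr M = 0 := fun M hM => by_contra fun h =>
    not_binary_upper_semisimple hb hup M hM h (tr_sq_ne_four.2 h)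
  rw [← Nat.card_eq_fintype_card]
  refine (Nat.card_congr (Equiv.ofBijective
    (fun b : F => (⟨pr (uT b), uT_mem_of_binary hb hne hup hu b⟩ : H)) ⟨fun a b e => ?_, fun g => ?_⟩)).symm
  · simpa using congrArg (fun M : SL2 => M 0 1) (pr_inj (congrArg Subtype.val e))
  · obtain ⟨g, hg⟩ := g
    obtain ⟨M, rfl⟩ := QuotientGroup.mk_surjective g
    refine ⟨M 0 1, Subtype.ext (congrArg pr ?_)⟩
    have h10 := hup M hg
    have hd := det_eq M
    rw [h10, mul_zero, sub_zero] at hd
    have h11 : M 1 1 = M 0 0 := by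
      have := hu M hg
      rw [tr] at this
      linear_combination this - M 0 0 * (CharTwo.two_eq_zero : (2 : F) = 0)
    rw [h11] at hd
    have h00 : M 0 0 = 1 := by
      rcases mul_self_eq_one_iff.1 hd with h | h
      · exact h
      · rwa [CharTwo.neg_eq] at h
    exact ext_two (by simp [h00]) (by simp) (by simp [h10]) (by simp [h11, h00])

/-- The binary actions for even `q`. -/
theorem binary_even {H : Subgroup 𝔾} (h4 : 4 ≤ Fintype.card F) (hb : IsBinary H) (hH : H ≠ ⊤)
    (hne : H ≠ ⊥) : (∃ P : Sylow 2 𝔾, H = P) ∨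
      (Nat.card H = 3 ∧ ¬ ∃ w : F, w * w + w + 1 = 0) := by
  classical
  have : Fact (Nat.Prime 2) := ⟨Nat.prime_two⟩
  obtain ⟨n, -, hn⟩ := FiniteField.card F 2
  have he : Even (Fintype.card F) := hn ▸ (Nat.even_pow).2 ⟨even_two, n.ne_zero⟩
  have upper : ∀ x : OnePoint F, (∀ h ∈ H, PSL2.pslPerm F h x = x) → ∃ P : Sylow 2 𝔾, H = P := by
    intro x hx
    obtain ⟨k, hk⟩ := exists_upper hx
    have hne' : H.map (MulAut.conj k).toMonoidHom ≠ ⊥ := fun e => hne
      ((Subgroup.map_eq_bot_iff_of_injective _ (MulAut.conj k).injective).1 e)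
    have := card_eq_of_upper (hb.map k) hne' hk
    rw [Subgroup.card_map_of_injective (MulAut.conj k).injective] at this
    exact exists_sylow_of_card this
  have sq2 : ∀ h : H, h ^ 2 = 1 ↔ ∀ M : SL2, pr M = h → tr M = 0 := by
    intro h
    obtain ⟨M, hM⟩ := QuotientGroup.mk_surjective (h : 𝔾)
    constructor
    · intro e N hN
      rw [← pr_mul_self_iff, hN, ← Subgroup.coe_mul, ← sq, e]; rfl
    · intro e
      refine Subtype.ext ?_
      rw [SubmonoidClass.coe_pow, sq, ← hM]
      exact pr_mul_self_iff.2 (e M hM)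
  rcases PSL2.dickson_strong 2 (ProjectiveSpecialLinearGroup.toPGL.comp H.subtype)
    (ProjectiveSpecialLinearGroup.toPGL_injective.comp H.subtype_injective) with
    ⟨x, hx⟩ | hT | ⟨C, -, hC, ⟨φ⟩⟩ | ⟨⟨φ⟩⟩ | ⟨⟨φ⟩⟩ | ⟨h2ne, -⟩ | ⟨S, hS, hiso⟩
  · exact Or.inl (upper x fun h hh => hx ⟨h, hh⟩)
  · right
    obtain ⟨hcyc, hp, -⟩ := hT
    let _ := hcyc.commGroup
    have htr : ∀ X : SL2, pr X ∈ H → X ≠ 1 → tr X ≠ 0 := fun X hX h1 h0 => h1 (pr_inj (by
      have := hp ⟨pr X, hX⟩ (Subtype.ext (by rw [SubmonoidClass.coe_pow, sq]; exact pr_mul_self_iff.2 h0))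
      exact congrArg Subtype.val this))
    have good : ∀ X : SL2, pr X ∈ H → X ≠ 1 → tr X = 1 ∧ ¬ ∃ w : F, w * w + w + 1 = 0 := by
      intro X hX h1
      by_contra hcon
      refine not_binary_of_good hb X hX (htr X hX h1) (tr_sq_ne_four.2 (htr X hX h1)) (fun g hg => ?_) ?_
      · exact congrArg Subtype.val (mul_comm (⟨pr X, hX⟩ : H) ⟨g, hg.mem hX⟩)
      · by_cases e : tr X = 1
        · exact Or.inr (Or.inr (not_not.1 fun hw => hcon ⟨e, hw⟩))
        · exact Or.inr (Or.inl e)
    obtain ⟨g, hg⟩ := IsCyclic.exists_generator (α := H)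
    obtain ⟨g, hgH⟩ := g
    obtain ⟨X, rfl⟩ := QuotientGroup.mk_surjective g
    have hX1 : X ≠ 1 := by
      rintro rfl
      refine hne (eq_bot_iff.2 fun y hy => ?_)
      obtain ⟨m, hm⟩ := Subgroup.mem_zpowers_iff.1 (hg ⟨y, hy⟩)
      have := congrArg Subtype.val hm
      rw [show (⟨QuotientGroup.mk (1 : SL2), hgH⟩ : H) = 1 from Subtype.ext rfl, _root_.one_zpow] at this
      exact this.symm
    obtain ⟨ht, hw⟩ := good X hgH hX1
    refine ⟨?_, hw⟩
    rw [← orderOf_eq_card_of_forall_mem_zpowers hg, Subgroup.orderOf_mk]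
    refine orderOf_eq_prime (hp := ⟨Nat.prime_three⟩) ?_ fun e => hX1 (pr_inj e)
    show pr X ^ 3 = 1
    have e3 : X * X * X = 1 := by
      have h2 : (2 : F) = 0 := CharTwo.two_eq_zero
      obtain ⟨a, b, c, d⟩ := mul_apply_two (X * X) X
      obtain ⟨p, q, r, s⟩ := mul_apply_two X X
      have hd := det_eq X
      have h11 : X 1 1 = 1 - X 0 0 := by rw [tr] at ht; linear_combination ht
      rw [h11] at hd
      refine ext_two ?_ ?_ ?_ ?_ <;> simp only [a, b, c, d, p, q, r, s, h11] <;> simp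
      · linear_combination -(1 + X 0 0) * hd + (-1 : F) * h2
      · linear_combination -(X 0 1) * hd
      · linear_combination -(X 1 0) * hd
      · linear_combination -(2 - X 0 0) * hd + (-1 : F) * h2
    rw [pow_succ, sq]
    exact (congrArg pr e3 :)
  · exfalso
    obtain ⟨hcyc, hp, -⟩ := hC
    set k := Nat.card C
    have hodd : ¬ 2 ∣ k := fun hd => by
      obtain ⟨c, hc⟩ := exists_prime_orderOf_dvd_card' (G := C) 2 hd
      have := hp c (orderOf_dvd_iff_pow_eq_one.1 hc.dvd)
      rw [this, orderOf_one] at hc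
      omega
    have hk0 : k ≠ 0 := Nat.card_pos.ne'
    have hr : ∀ X : SL2, ∀ hX : pr X ∈ H, tr X ≠ 0 → ∃ i, φ ⟨pr X, hX⟩ = DihedralGroup.r i := by
      intro X hX h0
      cases e : φ ⟨pr X, hX⟩ with
      | r i => exact ⟨i, rfl⟩
      | sr i =>
        refine absurd ((sq2 ⟨pr X, hX⟩).1 (φ.injective ?_) X rfl) h0
        rw [map_pow, map_one, e, sq, DihedralGroup.sr_mul_self]
    obtain ⟨M, hM⟩ := QuotientGroup.mk_surjective ((φ.symm (DihedralGroup.sr 0) : H) : 𝔾)
    have hMH : pr M ∈ H := by rw [show pr M = _ from hM]; exact SetLike.coe_mem _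
    have hMe : (⟨pr M, hMH⟩ : H) = φ.symm (DihedralGroup.sr 0) := Subtype.ext hM
    have hM0 : tr M = 0 := (sq2 ⟨pr M, hMH⟩).1 (φ.injective (by
      rw [map_pow, map_one, hMe, MulEquiv.apply_symm_apply, sq, DihedralGroup.sr_mul_self])) M rfl
    have hM1 : M ≠ 1 := by
      rintro rfl
      have := congrArg φ hMe
      rw [MulEquiv.apply_symm_apply, show (⟨pr (1 : SL2), hMH⟩ : H) = 1 from Subtype.ext rfl, map_one,
        DihedralGroup.one_def] at this
      cases this
    rcases eq_or_ne k 1 with hk1 | hk1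
    · -- a group of order two fixes a point
      have hc2 : Nat.card H = 2 := by rw [Nat.card_congr φ.toEquiv, DihedralGroup.nat_card]; omega
      obtain ⟨c, hc⟩ := exists_conj_involution hM0 hM1 (B := uT 1) (by simp [tr, CharTwo.add_self_eq_zero])
        (fun h => one_ne_zero (α := F) (by simpa using congrArg (fun N : SL2 => N 0 1) h))
      set H' := H.map (MulAut.conj (pr c)).toMonoidHom with hH'
      have hc2' : Nat.card H' = 2 := by
        rw [hH', Subgroup.card_map_of_injective (MulAut.conj (pr c)).injective, hc2]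
      have hm : pr (uT 1) ∈ H' := (mem_map_conj c _).2 (by
        rw [← hc, show c⁻¹ * (c * M * c⁻¹) * c = M by group]; exact hMH)
      obtain ⟨u, w, huw, huniv⟩ := Nat.card_eq_two_iff.1 hc2'
      have hup : UpperIn H' := fun N hN => by
        by_contra hN0
        have h1 : N ≠ 1 := by rintro rfl; simp at hN0
        have hu1 : N ≠ uT 1 := by rintro rfl; simp at hN0
        have a1 : (1 : H') ∈ ({u, w} : Set H') := huniv ▸ Set.mem_univ _
        have a2 : (⟨_, hm⟩ : H') ∈ ({u, w} : Set H') := huniv ▸ Set.mem_univ _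
        have a3 : (⟨_, hN⟩ : H') ∈ ({u, w} : Set H') := huniv ▸ Set.mem_univ _
        have n12 : (1 : H') ≠ ⟨_, hm⟩ := fun e => one_ne_zero (α := F) (by
          simpa using congrArg (fun M : SL2 => M 0 1) (pr_inj (congrArg Subtype.val e)).symm)
        have n13 : (1 : H') ≠ ⟨_, hN⟩ := fun e => h1 (pr_inj (congrArg Subtype.val e)).symm
        have n23 : (⟨_, hm⟩ : H') ≠ ⟨_, hN⟩ := fun e => hu1 (pr_inj (congrArg Subtype.val e)).symm
        simp only [Set.mem_insert_iff, Set.mem_singleton_iff] at a1 a2 a3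
        rcases a1 with a1 | a1 <;> rcases a2 with a2 | a2 <;> rcases a3 with a3 | a3 <;>
          first
            | exact n12 (a1.trans a2.symm)
            | exact n13 (a1.trans a3.symm)
            | exact n23 (a2.trans a3.symm)
      have := card_eq_of_upper (hb.map _) (fun e => by rw [← hH'] at e; rw [e, Subgroup.card_bot] at hc2'; omega) hup
      rw [← hH'] at this
      omega
    · obtain ⟨N, hN⟩ := QuotientGroup.mk_surjective ((φ.symm (DihedralGroup.r 1) : H) : 𝔾)
      have hNH : pr N ∈ H := by rw [show pr N = _ from hN]; exact SetLike.coe_mem _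
      refine not_binary_dihedral hb h4 (fun X Y hX hY hX0 hY0 => pr_inj ?_) hNH (fun h0 => ?_) hMH hM0 hM1
      · obtain ⟨i, hi⟩ := hr X hX hX0
        obtain ⟨j, hj⟩ := hr Y hY hY0
        have e : (⟨pr X, hX⟩ : H) * ⟨pr Y, hY⟩ = ⟨pr Y, hY⟩ * ⟨pr X, hX⟩ := φ.injective (by
          rw [map_mul, map_mul, hi, hj, DihedralGroup.r_mul_r, DihedralGroup.r_mul_r, add_comm])
        exact congrArg Subtype.val e
      · have e : (φ.symm (DihedralGroup.r 1) : H) ^ 2 = 1 := (sq2 _).2 fun N' hN' => by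
          rw [← hN] at hN'
          rwa [pr_inj hN']
        have := congrArg φ e
        rw [map_pow, MulEquiv.apply_symm_apply, map_one] at this
        have hd := orderOf_dvd_of_pow_eq_one this
        rw [DihedralGroup.orderOf_r_one] at hd
        rcases (Nat.dvd_prime Nat.prime_two).1 hd with e' | e'
        · exact hk1 e'
        · exact hodd (e' ▸ dvd_rfl)
  · left
    obtain ⟨x, hx⟩ := PSL2.exists_fix_alt_four he
      ((ProjectiveSpecialLinearGroup.toPGL.comp H.subtype).comp φ.symm.toMonoidHom)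
      ((ProjectiveSpecialLinearGroup.toPGL_injective.comp H.subtype_injective).comp φ.symm.injective)
    refine upper x fun h hh => ?_
    exact PSL2.mem_pglPointStab.1 (hx ⟨φ ⟨h, hh⟩, by simp⟩)
  · exfalso
    have hsw : (Equiv.swap (0 : Fin 4) 1 * Equiv.swap 1 2 * Equiv.swap 2 3) ^ 4 = 1 ∧
        (Equiv.swap (0 : Fin 4) 1 * Equiv.swap 1 2 * Equiv.swap 2 3) ^ 2 ≠ 1 := by decide
    set σ := Equiv.swap (0 : Fin 4) 1 * Equiv.swap 1 2 * Equiv.swap 2 3
    obtain ⟨M, hM⟩ := QuotientGroup.mk_surjective ((φ.symm σ : H) : 𝔾)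
    have hsq : (φ.symm σ) ^ 2 ≠ 1 := fun e => hsw.2 (φ.symm.injective (by rw [map_pow, e, map_one]))
    by_cases h0 : tr M = 0
    · exact hsq ((sq2 _).2 fun N hN => by rw [← hM] at hN; rwa [pr_inj hN])
    · have hM' := SpecLin.SLTwo.pow_card_sq_sub_one (M := M) (by rw [trace_eq_tr]; exact tr_sq_ne_four.2 h0)
      have h4' : (φ.symm σ) ^ 4 = 1 := by rw [← map_pow, hsw.1, map_one]
      have hq : (φ.symm σ) ^ (Fintype.card F ^ 2 - 1) = 1 := Subtype.ext (by
        rw [SubmonoidClass.coe_pow, ← hM]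
        show (QuotientGroup.mk M : 𝔾) ^ _ = 1
        rw [← QuotientGroup.mk_pow, hM']; rfl)
      have hd4 := orderOf_dvd_of_pow_eq_one h4'
      have hdq := orderOf_dvd_of_pow_eq_one hq
      have hco : Nat.Coprime 4 (Fintype.card F ^ 2 - 1) := by
        rw [show (4 : ℕ) = 2 ^ 2 from rfl]
        refine Nat.Coprime.pow_left 2 ((Nat.prime_two.coprime_iff_not_dvd).2 ?_)
        have h1 : 1 ≤ Fintype.card F ^ 2 := Nat.one_le_pow _ _ (by omega)
        have h2 : 2 ∣ Fintype.card F ^ 2 := dvd_pow (even_iff_two_dvd.1 he) two_ne_zero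
        omega
      have := Nat.eq_one_of_dvd_coprimes hco hd4 hdq
      rw [orderOf_eq_one_iff] at this
      exact hsq (by rw [this, one_pow])
  · exact absurd rfl h2ne
  · exfalso
    have hS2 : Even (Fintype.card S) := by
      have : CharP S 2 := (RingHom.charP_iff_charP S.subtype 2).2 inferInstance
      obtain ⟨m, -, hm⟩ := FiniteField.card S 2
      exact hm ▸ (Nat.even_pow).2 ⟨even_two, m.ne_zero⟩
    have hcard : Nat.card H = (Fintype.card S + 1) * (Fintype.card S * (Fintype.card S - 1)) := by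
      rcases hiso with ⟨⟨φ⟩⟩ | ⟨⟨φ⟩⟩ <;> rw [Nat.card_congr φ.toEquiv]
      · have := PSL2.card_psl (F := S)
        rwa [PSL2.gcd_eq_one hS2, one_mul] at this
      · exact PSL2.card_pgl
    obtain ⟨k, hk⟩ := exists_conj_overS hS hcard
    refine not_binary_overS (hb.map k) (fun e => hH ?_) h4 hk
    exact Subgroup.map_injective (MulAut.conj k).injective
      (e.trans (Subgroup.map_top_of_surjective _ (MulAut.conj k).surjective).symm)

end charTwo

end CfsgLib.BinaryPSL
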