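import Cfsg.Agent.Lib.BinaryPSL.Upper
import Cfsg.Agent.Lib.PSL2.Borel
import Cfsg.Agent.Lib.PSL2.Involution
import Cfsg.Agent.Lib.PSL2.MaxDihedral

/-!
# Stabilisers of even order in `PSL₂(q)`, `q` odd, give no binary action

Three commuting involutions `a, s, a s` from a four-group permuted by an element of order three form
a triangle, as soon as some conjugate of the stabiliser through `a` misses `s`; otherwise the
stabiliser contains the centraliser of each of its involutions, which is impossible.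
-/

set_option autoImplicit false
set_option linter.unusedSectionVars false

namespace CfsgLib.BinaryPSL

open Matrix CfsgLib.BinaryAct OnePoint

variable {F : Type*} [Field F] [Fintype F]

local notation "SL2" => Matrix.SpecialLinearGroup (Fin 2) F
local notation "M2" => Matrix (Fin 2) (Fin 2) F
local notation "𝔾" => Matrix.ProjectiveSpecialLinearGroup (Fin 2) F

section involutions

variable (h2 : (2 : F) ≠ 0)
include h2

theorem four_ne_zero' : (4 : F) ≠ 0 := by
  rw [show (4 : F) = 2 * 2 by norm_num]; exact mul_ne_zero h2 h2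

theorem orderOf_pr_of_tr {A : SL2} (h : tr A = 0) : orderOf (pr A) = 2 := by
  refine orderOf_eq_prime (SpecLin.SLTwo.sq_eq_one_of_trace_eq_zero (by rw [trace_eq_tr, h])) fun e => ?_
  have := tr_sq_eq_four_of_scal ((pr_eq_one_iff A).1 e)
  rw [h] at this
  exact four_ne_zero' h2 (by linear_combination -this)

theorem pr_mul_self {A : SL2} (h : tr A = 0) : pr A * pr A = 1 := by
  rw [← sq]; exact SpecLin.SLTwo.sq_eq_one_of_trace_eq_zero (by rw [trace_eq_tr, h])

theorem tr_eq_zero_of_orderOf {A : SL2} (h : orderOf (pr A) = 2) : tr A = 0 := by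
  have h1 : pr A ≠ 1 := fun e => by rw [e, orderOf_one] at h; omega
  have h' : pr (A * A) = 1 := by
    show pr A * pr A = 1
    have := pow_orderOf_eq_one (pr A)
    rwa [h, sq] at this
  obtain ⟨s1, s2, -⟩ := (pr_eq_one_iff _).1 h'
  obtain ⟨-, m1, m2, -⟩ := mul_apply_two A A
  by_contra ht
  refine h1 ((pr_eq_one_iff A).2 ⟨?_, ?_, ?_⟩)
  · exact mul_left_cancel₀ ht (by rw [tr]; linear_combination m1.symm.trans s1)
  · exact mul_left_cancel₀ ht (by rw [tr]; linear_combination m2.symm.trans s2)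
  · obtain ⟨-, -, s3⟩ := (pr_eq_one_iff _).1 h'
    obtain ⟨m0, -, -, m3⟩ := mul_apply_two A A
    rw [m0, m3] at s3
    exact mul_left_cancel₀ ht (by rw [tr]; linear_combination s3)

omit h2 in
theorem mul_self_of_tr_zero {A : SL2} (h : tr A = 0) : A * A = -1 := by
  obtain ⟨m0, m1, m2, m3⟩ := mul_apply_two A A
  have hd := det_eq A
  rw [tr] at h
  refine ext_two ?_ ?_ ?_ ?_ <;> simp only [m0, m1, m2, m3, neg_apply_two] <;> simp
  · linear_combination A 0 0 * h - hd
  · linear_combination A 0 1 * h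
  · linear_combination A 1 0 * h
  · linear_combination A 1 1 * h - hd

/-- Distinct commuting involutions have anticommuting lifts. -/
theorem anticommute_of_involutions {A S : SL2} (hA : tr A = 0) (hS : tr S = 0)
    (hne : pr S ≠ pr A) (hc : pr A * pr S = pr S * pr A) : A * S = -(S * A) := by
  rcases pr_commute hc with h | h
  · exfalso
    obtain ⟨a0, a1, a2, a3⟩ := mul_apply_two A S
    have hd : tr (A * S) ^ 2 = 4 := by
      have hsq : (A * S) * (A * S) = 1 := by
        calc (A * S) * (A * S) = A * (S * A) * S := by group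
          _ = A * A * (S * S) := by rw [← h]; group
          _ = 1 := by rw [mul_self_of_tr_zero hA, mul_self_of_tr_zero hS, neg_mul_neg, one_mul]
      have := tr_sq (A * S)
      rw [hsq] at this
      have e : tr (1 : SL2) = 2 := by simp [tr]; norm_num
      rw [e] at this
      linear_combination -this
    -- then `A S` is an involution of trace `± 2`, hence central
    have hord : pr (A * S) ^ 2 = 1 := by
      rw [sq]
      show pr A * pr S * (pr A * pr S) = 1
      rw [mul_assoc, ← mul_assoc (pr S), ← hc, mul_assoc (pr A), ← mul_assoc]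
      rw [pr_mul_self h2 hA, pr_mul_self h2 hS, one_mul]
    have sqS : pr S * pr S = 1 := pr_mul_self h2 hS
    have hne1 : pr (A * S) ≠ 1 := fun e => hne (by
      have : pr A * pr S = 1 := e
      rw [mul_eq_one_iff_eq_inv] at this
      rw [this, inv_eq_of_mul_eq_one_right sqS])
    have h0 := tr_eq_zero_of_orderOf h2 (orderOf_eq_prime hord hne1)
    rw [h0] at hd
    exact four_ne_zero' h2 (by linear_combination -hd)
  · exact h

/-- The centraliser of a four-group is the four-group. -/
theorem mem_four_group {A S : SL2} (hA : tr A = 0) (hS : tr S = 0) (h : A * S = -(S * A)) {g : 𝔾}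
    (h1 : pr A * g = g * pr A) (h3 : pr S * g = g * pr S) :
    g = 1 ∨ g = pr A ∨ g = pr S ∨ g = pr A * pr S := by
  obtain ⟨G, rfl⟩ := QuotientGroup.mk_surjective g
  have hh : S * A = -(A * S) := by rw [h, neg_neg]
  have hAA := mul_self_of_tr_zero hA
  have hSS := mul_self_of_tr_zero hS
  have hne : A * S ≠ S * A := fun e => by
    have := congrArg tr (mul_self_of_tr_zero hA)
    rw [hh] at e
    have e00 := congrArg (fun M : SL2 => M 0 0) e
    have e01 := congrArg (fun M : SL2 => M 0 1) e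
    have e10 := congrArg (fun M : SL2 => M 1 0) e
    have e11 := congrArg (fun M : SL2 => M 1 1) e
    simp only [neg_apply_two] at e00 e01 e10 e11
    have z : ∀ x : F, x = -x → x = 0 := fun x hx => mul_left_cancel₀ h2 (by linear_combination hx)
    have hd := det_eq (A * S)
    rw [z _ e00, z _ e01] at hd
    simp at hd
  have scal : ∀ T : SL2, A * T = T * A → S * T = T * S → pr T = 1 := fun T t1 t2 =>
    (pr_eq_one_iff T).2 (by_contra fun hT => hne (commute_of_commute hT t1.symm t2.symm))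
  have sqA : pr A * pr A = 1 := pr_mul_self h2 hA
  have sqS : pr S * pr S = 1 := pr_mul_self h2 hS
  rcases pr_commute h1 with a1 | a1 <;> rcases pr_commute h3 with s1 | s1
  · exact Or.inl (scal G a1 s1)
  · refine Or.inr (Or.inl ?_)
    have := scal (G * A) (by rw [← mul_assoc, a1])
      (by rw [← mul_assoc, s1, neg_mul, mul_assoc G S, hh, mul_neg, neg_neg, ← mul_assoc])
    exact (mul_eq_one_iff_eq_inv.1 (show pr G * pr A = 1 from this)).trans
      (inv_eq_of_mul_eq_one_right sqA)
  · refine Or.inr (Or.inr (Or.inl ?_))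
    have := scal (G * S)
      (by rw [← mul_assoc, a1, neg_mul, mul_assoc G A, h, mul_neg, neg_neg, ← mul_assoc])
      (by rw [← mul_assoc, s1])
    exact (mul_eq_one_iff_eq_inv.1 (show pr G * pr S = 1 from this)).trans
      (inv_eq_of_mul_eq_one_right sqS)
  · refine Or.inr (Or.inr (Or.inr ?_))
    have := scal (G * S * A)
      (by rw [← mul_assoc, ← mul_assoc, a1, neg_mul, mul_assoc G A S, h, mul_neg, neg_neg, ← mul_assoc])
      (by
        calc S * (G * S * A) = (S * G) * (S * A) := by group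
          _ = -(G * (S * S) * A) := by rw [s1, neg_mul]; group
          _ = G * A := by rw [hSS, mul_neg, neg_mul, neg_neg, mul_one]
          _ = -(G * (S * S) * A) := by rw [hSS, mul_neg, neg_mul, neg_neg, mul_one]
          _ = G * S * (-(S * A)) := by rw [mul_neg]; group
          _ = G * S * A * S := by rw [← h]; group)
    have e : pr G * pr S * pr A = 1 := this
    calc pr G = pr G * pr S * pr A * (pr A * pr S) := by
          rw [mul_assoc _ (pr A), ← mul_assoc (pr A) (pr A), sqA, one_mul, mul_assoc, sqS, mul_one]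
      _ = _ := by rw [e, one_mul]

/-- A four-group is permuted cyclically. -/
theorem exists_cycle {A S : SL2} (hA : tr A = 0) (hS : tr S = 0) (h : A * S = -(S * A)) :
    ∃ c : 𝔾, c * pr A * c⁻¹ = pr S ∧ c * pr S * c⁻¹ = pr A * pr S := by
  have hh : S * A = -(A * S) := by rw [h, neg_neg]
  have hAA := congrArg (fun M : SL2 => (M : M2)) (mul_self_of_tr_zero hA)
  have hSS := congrArg (fun M : SL2 => (M : M2)) (mul_self_of_tr_zero hS)
  have hSA := congrArg (fun M : SL2 => (M : M2)) hh
  simp only [Matrix.SpecialLinearGroup.coe_mul, Matrix.SpecialLinearGroup.coe_neg,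
    Matrix.SpecialLinearGroup.coe_one] at hAA hSS hSA
  set m : M2 := 1 + (A : M2) + (S : M2) + (A : M2) * S with hm
  have e1 : m * A = (S : M2) * m := by
    have hA' : (A : M2) * ((S : M2) * A) = (S : M2) := by
      rw [hSA, mul_neg, ← mul_assoc, hAA, neg_mul, one_mul, neg_neg]
    have hS' : (S : M2) * ((A : M2) * S) = (A : M2) := by
      rw [← mul_assoc, hSA, neg_mul, mul_assoc, hSS, mul_neg, mul_one, neg_neg]
    rw [hm, add_mul, add_mul, add_mul, mul_add, mul_add, mul_add, hAA, hSS, hS', mul_assoc _ (S : M2),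
      hA', one_mul, mul_one, hSA]
    abel
  have e2 : m * S = (A : M2) * S * m := by
    have hA' : (A : M2) * S * A = (S : M2) := by
      rw [mul_assoc, hSA, mul_neg, ← mul_assoc, hAA, neg_mul, one_mul, neg_neg]
    have hS' : (A : M2) * S * S = -(A : M2) := by rw [mul_assoc, hSS, mul_neg, mul_one]
    have hAS' : (A : M2) * S * ((A : M2) * S) = -1 := by rw [← mul_assoc, hA', hSS]
    rw [hm, add_mul, add_mul, add_mul, mul_add, mul_add, mul_add, hSS, hA', hS', hAS', one_mul, mul_one]
    abel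
  have hdet : m.det = 4 := by
    have hd1 := det_eq A
    have hd3 := det_eq S
    have t1 : A 1 1 = -A 0 0 := by rw [tr] at hA; linear_combination hA
    have t3 : S 1 1 = -S 0 0 := by rw [tr] at hS; linear_combination hS
    obtain ⟨p0, -, -, -⟩ := mul_apply_two A S
    obtain ⟨q0, -, -, -⟩ := mul_apply_two S A
    have hk := congrArg (fun M : SL2 => M 0 0) h
    simp only [neg_apply_two, p0, q0] at hk
    rw [Matrix.det_fin_two]
    simp [hm, Matrix.mul_apply, Fin.sum_univ_two, t1, t3]
    rw [t1] at hd1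
    rw [t3] at hd3
    linear_combination (1 - (S 0 0 * S 0 0 + S 0 1 * S 1 0)) * hd1 + 2 * hd3
  obtain ⟨C, hC⟩ : ∃ C : SL2, (C : M2) = (2⁻¹ : F) • m :=
    ⟨⟨_, by rw [Matrix.det_smul, hdet, Fintype.card_fin]; field_simp; norm_num⟩, rfl⟩
  refine ⟨pr C, ?_, ?_⟩
  · refine mul_inv_eq_iff_eq_mul.2 (congrArg pr (?_ : C * A = S * C))
    exact Subtype.ext (by
      simp only [Matrix.SpecialLinearGroup.coe_mul, hC, smul_mul_assoc, mul_smul_comm, e1])
  · refine mul_inv_eq_iff_eq_mul.2 (congrArg pr (?_ : C * S = A * S * C))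
    exact Subtype.ext (by
      simp only [Matrix.SpecialLinearGroup.coe_mul, hC, smul_mul_assoc, mul_smul_comm, e2])

/-- The four-group triangle. -/
theorem not_binary_four {H : Subgroup 𝔾} (hb : IsBinary H) {A S : SL2} (hA : tr A = 0)
    (hS : tr S = 0) (h : A * S = -(S * A)) (haH : pr A ∈ H) (hns : ¬ InAll H (pr A) (pr S))
    (hD : (∀ g, InAll H (pr A) g → pr A * g = g * pr A) ∨
      Nat.card ↥(Subgroup.centralizer ({pr A} : Set 𝔾)) = 8) : False := by
  obtain ⟨c, hc1, hc2⟩ := exists_cycle h2 hA hS h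
  set a := pr A with ha
  set s := pr S with hs
  set y := a * s with hy
  have sqA : a * a = 1 := pr_mul_self h2 hA
  have sqS : s * s = 1 := pr_mul_self h2 hS
  have hcomm : a * s = s * a := by
    show pr (A * S) = pr (S * A)
    exact (pr_eq_iff _ _).2 (Or.inr (by rw [h, neg_neg]))
  have hc3 : c * y * c⁻¹ = a := by
    rw [hy, show c * (a * s) * c⁻¹ = c * a * c⁻¹ * (c * s * c⁻¹) by group, hc1, hc2]
    show s * (a * s) = a
    rw [hcomm, ← mul_assoc, sqS, one_mul]
  have hay : ¬ InAll H a y := fun hh => hns (by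
    have := (inAll_self H a).mul hh
    rwa [hy, ← mul_assoc, sqA, one_mul] at this)
  have hya : ¬ InAll H y a := fun hh => hns (by
    have := hh.conj c
    rwa [hc1, hc3] at this)
  have hys : ¬ InAll H y s := fun hh => hay (by
    have := hh.conj c
    rwa [hc2, hc3] at this)
  have hkey : ∀ g, InAll H a g → InAll H y g → a * g = g * a → y * g = g * y → g = 1 := by
    intro g h1 h3 ca cy
    have cs : s * g = g * s := by
      have e : s = a * y := by rw [hy, ← mul_assoc, sqA, one_mul]
      rw [e, mul_assoc, cy, ← mul_assoc, ca, mul_assoc]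
    rcases mem_four_group h2 hA hS h ca cs with e | e | e | e
    · exact e
    · exact absurd (by rw [e] at h3; exact h3) hya
    · exact absurd (by rw [e] at h1; exact h1) hns
    · exact absurd (by rw [e] at h1; exact h1) hay
  have hab : ∀ g, InAll H a g → InAll H y g → g = 1 := by
    rcases hD with hD | hD
    · intro g h1 h3
      refine hkey g h1 h3 (hD g h1) ?_
      have := hD _ (show InAll H a (c * g * c⁻¹) by have := h3.conj c; rwa [hc3] at this)
      rw [← hc3] at this
      have := congrArg (fun w => c⁻¹ * w * c) this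
      simpa [mul_assoc] using this
    · -- each involution of the four-group has no fixed point in the intersection
      set E := allThrough H a ⊓ allThrough H y with hE
      have hW : ∀ w, (w = a ∨ w = s ∨ w = y) → w * w = 1 ∧ w * a = a * w ∧ w * y = y * w := by
        rintro w (rfl | rfl | rfl)
        · exact ⟨sqA, rfl, by rw [hy, ← mul_assoc, sqA, mul_assoc, ← hcomm, ← mul_assoc, sqA]⟩
        · exact ⟨sqS, hcomm.symm, by rw [hy, ← mul_assoc, ← hcomm]⟩
        · refine ⟨?_, by rw [hy, mul_assoc, ← hcomm], rfl⟩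
          rw [hy, mul_assoc, ← mul_assoc s, ← hcomm, mul_assoc a s s, sqS, mul_one, sqA]
      have hEconj : ∀ w, (w = a ∨ w = s ∨ w = y) → ∀ g ∈ E, w * g * w⁻¹ ∈ E := fun w hw g hg =>
        ⟨(mem_allThrough.1 hg.1).conj_of_commute (hW w hw).2.1,
          (mem_allThrough.1 hg.2).conj_of_commute (hW w hw).2.2⟩
      have hcard : ∀ w, (w = a ∨ w = s ∨ w = y) →
          Nat.card ↥(Subgroup.centralizer ({w} : Set 𝔾)) = 8 := by
        rintro w (rfl | rfl | rfl)
        · exact hD
        · rw [← hD]; exact PSL2.card_centralizer_conj (isConj_iff.2 ⟨c, hc1⟩).symm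
        · rw [← hD]; exact PSL2.card_centralizer_conj (isConj_iff.2 ⟨c, hc3⟩)
      have hfpf : ∀ w v, (w = a ∨ w = s ∨ w = y) → (v = a ∨ v = s ∨ v = y) →
          (∀ g, w * g = g * w → v * g = g * v → g ∈ E → g = 1) →
          ∀ g ∈ E, w * g = g * w → g = 1 := by
        intro w v hw hv hpair g hg hwg
        by_contra hg1
        -- `j = g v g⁻¹ v⁻¹` is inverted by `v`
        set j := g * (v * g * v⁻¹)⁻¹ with hj
        have hwv : w * v = v * w := by
          rcases hv with rfl | rfl | rfl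
          · exact (hW w hw).2.1
          · calc w * s = w * (a * y) := by rw [hy, ← mul_assoc a a, sqA, one_mul]
              _ = a * y * w := by rw [← mul_assoc, (hW w hw).2.1, mul_assoc, (hW w hw).2.2, ← mul_assoc]
              _ = s * w := by rw [hy, ← mul_assoc a a, sqA, one_mul]
          · exact (hW w hw).2.2
        have hjE : j ∈ E := mul_mem hg (inv_mem (hEconj v hv g hg))
        have hjw : w * j = j * w := by
          have h1 : Commute w g := hwg
          have h3 : Commute w v := hwv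
          exact (h1.mul_right ((h3.mul_right h1).mul_right h3.inv_right).inv_right).eq
        rcases eq_or_ne j 1 with hj1 | hj1
        · refine hg1 (hpair g hwg ?_ hg)
          have := mul_inv_eq_one.1 (hj ▸ hj1)
          exact (mul_inv_eq_iff_eq_mul.1 this.symm)
        have hvj : v * j * v⁻¹ = j⁻¹ := by
          have hv1 : v * v = 1 := (hW v hv).1
          have hvi : v⁻¹ = v := inv_eq_of_mul_eq_one_right hv1
          rw [hj]
          simp only [_root_.mul_inv_rev, inv_inv, hvi, mul_assoc]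
          simp only [← mul_assoc v v, hv1, one_mul, mul_one]
        have hd : orderOf j ∣ 8 := by
          have hm : j ∈ Subgroup.centralizer ({w} : Set 𝔾) :=
            Subgroup.mem_centralizer_singleton_iff.2 hjw.symm
          rw [← hcard w hw, ← Subgroup.orderOf_mk j hm]
          exact orderOf_dvd_natCard _
        obtain ⟨n, hn⟩ : Even (orderOf j) := by
          obtain ⟨i, hi, e⟩ := (Nat.dvd_prime_pow Nat.prime_two (m := 3)).1 hd
          rcases i with _ | i
          · exact absurd (orderOf_eq_one_iff.1 (e.trans (pow_zero 2))) hj1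
          · exact ⟨2 ^ i, by rw [e]; ring⟩
        have hn0 : j ^ n ≠ 1 := fun e => by
          have := orderOf_pos j
          have := orderOf_le_of_pow_eq_one (by omega) e
          omega
        refine hn0 (hpair (j ^ n) ((Commute.pow_right hjw n).eq) ?_ (pow_mem hjE n))
        have e : v * j ^ n * v⁻¹ = j ^ n := by
          rw [← conj_pow, hvj, inv_pow, inv_eq_iff_mul_eq_one, ← pow_add, ← hn, pow_orderOf_eq_one]
        exact mul_inv_eq_iff_eq_mul.1 e
      have fa : ∀ g ∈ E, a * g = g * a → g = 1 := hfpf a y (Or.inl rfl) (Or.inr (Or.inr rfl))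
        fun g ca cy hg => hkey g hg.1 hg.2 ca cy
      have fy : ∀ g ∈ E, y * g = g * y → g = 1 := hfpf y a (Or.inr (Or.inr rfl)) (Or.inl rfl)
        fun g cy ca hg => hkey g hg.1 hg.2 ca cy
      have fs : ∀ g ∈ E, s * g = g * s → g = 1 := hfpf s a (Or.inr (Or.inl rfl)) (Or.inl rfl)
        fun g cs ca hg => hkey g hg.1 hg.2 ca (by rw [hy, mul_assoc, cs, ← mul_assoc, ca, mul_assoc])
      have inv : ∀ w, (w = a ∨ w = s ∨ w = y) → (∀ g ∈ E, w * g = g * w → g = 1) →
          ∀ g ∈ E, w * g * w⁻¹ = g⁻¹ := by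
        intro w hw hf g hg
        let φ : ↥E →* ↥E :=
          { toFun := fun g => ⟨w * g * w⁻¹, hEconj w hw g g.2⟩
            map_one' := Subtype.ext (by simp)
            map_mul' := fun g k => Subtype.ext (by simp [mul_assoc]) }
        have hφ : MonoidHom.FixedPointFree φ := fun g hg => Subtype.ext
          (hf g g.2 (mul_inv_eq_iff_eq_mul.1 (congrArg Subtype.val hg)))
        have hinv : Function.Involutive φ := fun g => Subtype.ext (by
          show w * (w * g * w⁻¹) * w⁻¹ = g
          rw [show w * (w * (g : 𝔾) * w⁻¹) * w⁻¹ = (w * w) * g * (w * w)⁻¹ by group, (hW w hw).1]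
          group)
        exact congrArg Subtype.val (congrFun (hφ.coe_eq_inv_of_involutive hinv) ⟨g, hg⟩)
      intro g h1 h3
      have hg : g ∈ E := ⟨h1, h3⟩
      refine fy g hg (mul_inv_eq_iff_eq_mul.1 ?_)
      have ea := inv a (Or.inl rfl) fa
      have es := inv s (Or.inr (Or.inl rfl)) fs
      calc y * g * y⁻¹ = a * (s * g * s⁻¹) * a⁻¹ := by rw [hy]; group
        _ = a * g⁻¹ * a⁻¹ := by rw [es g hg]
        _ = g := by rw [ea _ (inv_mem hg), inv_inv]
  have hyaS : y⁻¹ * a = s := by
    rw [hy, _root_.mul_inv_rev, mul_assoc, inv_mul_cancel, mul_one, inv_eq_of_mul_eq_one_right sqS]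
  have := hb.triangle a y ⟨1, by simpa using haH⟩ hab
  rw [hyaS] at this
  exact hay (by
    have := this.conj c⁻¹
    rwa [inv_inv, ← hc1, show c⁻¹ * (c * a * c⁻¹) * c = a by group,
      show c⁻¹ * a * c = y by rw [← hc3]; group] at this)

end involutions

theorem exists_anticommuting (h2 : (2 : F) ≠ 0) {A : SL2} (hA : tr A = 0) :
    ∃ S : SL2, tr S = 0 ∧ A * S = -(S * A) := by
  have h4 := four_ne_zero' h2
  have hW : tr (wT : SL2) = 0 := by simp [tr]
  have ns : ∀ B : SL2, tr B = 0 → ¬ Scal B := fun B hB hs => by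
    have := tr_sq_eq_four_of_scal hs
    rw [hB] at this
    exact h4 (by linear_combination -this)
  obtain ⟨g, hg⟩ := isConj_iff.1 (SpecLin.SLTwo.isConj_of_trace_eq (M := (wT : SL2)) (N := A)
    (Or.inr (by rw [trace_eq_tr, hW]; simpa using h4.symm)) ((not_scal_iff _).1 (ns _ hW))
    ((not_scal_iff A).1 (ns _ hA)) (by rw [trace_eq_tr, trace_eq_tr, hW, hA]))
  obtain ⟨α, β, hαβ⟩ := SpecLin.SLTwo.exists_form_eq (0 : F) (Or.inr (by simpa using h4.symm)) (-1)
  obtain ⟨S, hS⟩ : ∃ S : SL2, (S : M2) = !![α, β; β, -α] :=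
    ⟨⟨_, by rw [Matrix.det_fin_two_of]; linear_combination -hαβ⟩, rfl⟩
  have e : (wT : SL2) * S = -(S * wT) := by
    obtain ⟨a1, a2, a3, a4⟩ := mul_apply_two (wT : SL2) S
    obtain ⟨b1, b2, b3, b4⟩ := mul_apply_two S (wT : SL2)
    refine ext_two ?_ ?_ ?_ ?_ <;>
      simp only [a1, a2, a3, a4, b1, b2, b3, b4, neg_apply_two] <;> simp [hS]
  refine ⟨g * S * g⁻¹, by rw [tr_conj]; simp [tr, hS], ?_⟩
  rw [← hg]
  calc g * wT * g⁻¹ * (g * S * g⁻¹) = g * (wT * S) * g⁻¹ := by group
    _ = -(g * (S * wT) * g⁻¹) := by rw [e, mul_neg, neg_mul]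
    _ = -(g * S * g⁻¹ * (g * wT * g⁻¹)) := by group

/-- A centraliser of an involution is generated by involutions. -/
theorem centralizer_cases (h2 : (2 : F) ≠ 0) {A S : SL2} (hA : tr A = 0) (h : A * S = -(S * A))
    {g : 𝔾} (hg : pr A * g = g * pr A) :
    ∃ G : SL2, tr G = 0 ∧ A * G = -(G * A) ∧ (g = pr G ∨ g * pr S = pr G) := by
  obtain ⟨G, rfl⟩ := QuotientGroup.mk_surjective g
  rcases pr_commute hg with e | e
  · have e' : A * (G * S) = -(G * S * A) := by
      rw [← mul_assoc, e, mul_assoc G A, h, mul_neg, ← mul_assoc]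
    exact ⟨G * S, anticommute_tr h2 (B := A) (by rw [e', neg_neg]), e', Or.inr rfl⟩
  · exact ⟨G, anticommute_tr h2 (B := A) (by rw [e, neg_neg]), e, Or.inl rfl⟩

/-- Involutions with the same centraliser are equal unless that is a four-group. -/
theorem eq_of_centralizer_eq (h2 : (2 : F) ≠ 0) {i j : 𝔾} (hi : orderOf i = 2) (hj : orderOf j = 2)
    (he : Subgroup.centralizer ({i} : Set 𝔾) = Subgroup.centralizer ({j} : Set 𝔾))
    (h5 : 4 < Nat.card ↥(Subgroup.centralizer ({i} : Set 𝔾))) : i = j := by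
  by_contra hne
  obtain ⟨A, rfl⟩ := QuotientGroup.mk_surjective i
  obtain ⟨S, rfl⟩ := QuotientGroup.mk_surjective j
  have hc : pr A * pr S = pr S * pr A := by
    have hm : pr A ∈ Subgroup.centralizer ({pr S} : Set 𝔾) :=
      he ▸ Subgroup.mem_centralizer_singleton_iff.2 rfl
    exact Subgroup.mem_centralizer_singleton_iff.1 hm
  change 4 < Nat.card ↥(Subgroup.centralizer ({pr A} : Set 𝔾)) at h5
  have hA := tr_eq_zero_of_orderOf h2 hi
  have hS := tr_eq_zero_of_orderOf h2 hj
  have h := anticommute_of_involutions h2 hA hS (Ne.symm hne) hc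
  have hsub : ((Subgroup.centralizer ({pr A} : Set 𝔾)) : Set 𝔾) ⊆
      {1, pr A, pr S, pr A * pr S} := fun g hg => by
    have h1 := Subgroup.mem_centralizer_singleton_iff.1 hg
    have h3 := Subgroup.mem_centralizer_singleton_iff.1 (he ▸ hg :)
    simpa using mem_four_group h2 hA hS h h1.symm h3.symm
  have := Set.ncard_le_ncard hsub (Set.toFinite _)
  rw [← Nat.card_coe_set_eq] at this
  have b1 := Set.ncard_insert_le (1 : 𝔾) ({pr A, pr S, pr A * pr S} : Set 𝔾)
  have b2 := Set.ncard_insert_le (pr A) ({pr S, pr A * pr S} : Set 𝔾)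
  have b3 := Set.ncard_insert_le (pr S) ({pr A * pr S} : Set 𝔾)
  have b4 := Set.ncard_singleton (pr A * pr S)
  simp only [SetLike.coe_sort_coe] at this
  omega

/-- A subgroup fixing a point has an upper triangular conjugate. -/
theorem exists_upper [DecidableEq F] {H : Subgroup 𝔾} {x : OnePoint F}
    (hx : ∀ h ∈ H, PSL2.pslPerm F h x = x) :
    ∃ k : 𝔾, UpperIn (H.map (MulAut.conj k).toMonoidHom) := by
  obtain ⟨k, hk⟩ := PSL2.exists_psl_map x ∞
  refine ⟨k, fun M hM => ?_⟩
  obtain ⟨h, hh, e⟩ := hM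
  have hfix : PSL2.pslPerm F (pr M) ∞ = ∞ := by
    rw [← e]
    show PSL2.pslPerm F (k * h * k⁻¹) ∞ = ∞
    rw [map_mul, map_mul, map_inv, Equiv.Perm.mul_apply, Equiv.Perm.mul_apply, ← hk,
      Equiv.Perm.coe_inv, Equiv.symm_apply_apply, hx h hh]
  rw [pr, PSL2.pslPerm_mk, smul_infty_eq_ite] at hfix
  by_contra h10
  simp [h10] at hfix

/-- Anticommuting elements do not fix a common point. -/
theorem not_fix_of_anticommute [DecidableEq F] (h2 : (2 : F) ≠ 0) {H : Subgroup 𝔾} {x : OnePoint F}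
    (hx : ∀ h ∈ H, PSL2.pslPerm F h x = x) {A S : SL2} (hA : pr A ∈ H) (hS : pr S ∈ H)
    (h : A * S = -(S * A)) : False := by
  obtain ⟨k, hk⟩ := exists_upper hx
  obtain ⟨C, rfl⟩ := QuotientGroup.mk_surjective k
  have up : ∀ M : SL2, pr M ∈ H → (C * M * C⁻¹) 1 0 = 0 := fun M hM => hk _ ⟨pr M, hM, rfl⟩
  have e : (C * A * C⁻¹) * (C * S * C⁻¹) = -((C * S * C⁻¹) * (C * A * C⁻¹)) := by
    calc (C * A * C⁻¹) * (C * S * C⁻¹) = C * (A * S) * C⁻¹ := by group
      _ = -(C * (S * A) * C⁻¹) := by rw [h, mul_neg, neg_mul]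
      _ = _ := by group
  have hA' := up A hA
  have hS' := up S hS
  set A' := C * A * C⁻¹
  set S' := C * S * C⁻¹
  have e00 := congrArg (fun M : SL2 => M 0 0) e
  simp only [neg_apply_two] at e00
  rw [(mul_apply_two A' S').1, (mul_apply_two S' A').1, hA', hS', mul_zero, mul_zero, add_zero,
    add_zero] at e00
  have dA := det_eq A'
  have dS := det_eq S'
  rw [hA', mul_zero, sub_zero] at dA
  rw [hS', mul_zero, sub_zero] at dS
  have : (2 : F) = 0 := by
    linear_combination A' 1 1 * S' 1 1 * e00 - 2 * (S' 0 0 * S' 1 1) * dA - 2 * dS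
  exact h2 this

/-- For `q ≥ 11` the centraliser of an involution is maximal. -/
theorem centralizer_maximal (hodd : Odd (Fintype.card F)) (h11 : 11 ≤ Fintype.card F) {a : 𝔾}
    (ha : orderOf a = 2) {L : Subgroup 𝔾} (hle : Subgroup.centralizer ({a} : Set 𝔾) ≤ L)
    (hL : L ≠ ⊤) : L = Subgroup.centralizer ({a} : Set 𝔾) := by
  classical
  obtain ⟨p, hp⟩ := CharP.exists F
  have : Fact p.Prime := ⟨CharP.char_is_prime F p⟩
  let ι : F →+* AlgebraicClosure F := algebraMap F _
  have : CharP (AlgebraicClosure F) p := charP_of_injective_ringHom ι.injective p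
  obtain ⟨Φ, hΦ⟩ := PSL2.exists_frob (F := F) (L := AlgebraicClosure F) p
  have h2 := PSL2.two_ne_zero_of_odd hodd
  rw [Nat.odd_iff] at hodd
  obtain ⟨x, y, e, h, h4, hex⟩ : ∃ x y e, PSL2.IsPair ι Φ x y e ∧ 4 ∣ e ∧
      ((e = Fintype.card F - 1 ∧ Fintype.card F ∉ ({2, 3, 5, 7, 9, 11} : Finset ℕ)) ∨
      (e = Fintype.card F + 1 ∧ Fintype.card F ∉ ({2, 7, 9} : Finset ℕ))) := by
    by_cases hm : Fintype.card F % 4 = 1
    · obtain ⟨x, y, h⟩ := PSL2.exists_isPair_split (ι := ι) (Φ := Φ)
      exact ⟨x, y, _, h, by omega, Or.inl ⟨rfl, by simp; omega⟩⟩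
    · obtain ⟨x, y, h⟩ := PSL2.exists_isPair_nonsplit hΦ (ι := ι)
      exact ⟨x, y, _, h, by omega, Or.inr ⟨rfl, by simp; omega⟩⟩
  obtain ⟨j, hj, hC, -⟩ := PSL2.exists_centralizer_eq (Nat.odd_iff.2 hodd) hΦ h h4
  obtain ⟨c, hc⟩ := isConj_iff.1 (PSL2.isConj_of_orderOf_two h2 ha hj)
  have hiff : ∀ g : 𝔾, c⁻¹ * g * c ∈ Subgroup.centralizer ({a} : Set 𝔾) ↔
      g ∈ Subgroup.centralizer ({j} : Set 𝔾) := fun g => by
    rw [Subgroup.mem_centralizer_singleton_iff, Subgroup.mem_centralizer_singleton_iff, ← hc]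
    constructor <;> intro e
    · calc g * (c * a * c⁻¹) = c * (c⁻¹ * g * c * a) * c⁻¹ := by group
        _ = _ := by rw [e]; group
    · calc c⁻¹ * g * c * a = c⁻¹ * (g * (c * a * c⁻¹)) * c := by group
        _ = _ := by rw [e]; group
  have hle' : PSL2.pslPair ι x y ≤ L.map (MulAut.conj c).toMonoidHom := fun g hg =>
    ⟨c⁻¹ * g * c, hle ((hiff g).2 (hC ▸ hg)), by show c * (c⁻¹ * g * c) * c⁻¹ = g; group⟩
  have hne : L.map (MulAut.conj c).toMonoidHom ≠ ⊤ := fun e => hL (eq_top_iff.2 fun g _ => by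
    obtain ⟨l, hl, el⟩ := (e ▸ Subgroup.mem_top (c * g * c⁻¹) :
      c * g * c⁻¹ ∈ L.map (MulAut.conj c).toMonoidHom)
    have : l = g := (MulAut.conj c).injective el
    exact this ▸ hl)
  have heq := PSL2.eq_pslPair_of_le hΦ p h hex hle' hne
  refine le_antisymm (fun l hl => ?_) hle
  have hm : c * l * c⁻¹ ∈ PSL2.pslPair ι x y := heq ▸ ⟨l, hl, rfl⟩
  have := (hiff (c * l * c⁻¹)).2 (hC ▸ hm)
  simpa [mul_assoc] using this

/-- The orders which are possible for `q = 7, 9`. -/
theorem card_cases_small (hq : Fintype.card F = 7 ∨ Fintype.card F = 9) {H : Subgroup 𝔾}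
    (hH : H ≠ ⊤) (h8 : 8 ∣ Nat.card H) (hnc : ¬ IsCyclic H)
    (hfix : ∀ [DecidableEq F], ¬ ∃ x : OnePoint F, ∀ h ∈ H, PSL2.pslPerm F h x = x) :
    Nat.card H = 8 ∨ Nat.card H = 24 := by
  classical
  obtain ⟨p, hp⟩ := CharP.exists F
  have : Fact p.Prime := ⟨CharP.char_is_prime F p⟩
  have hg : Nat.gcd 2 (Fintype.card F - 1) = 2 := by rcases hq with e | e <;> rw [e] <;> rfl
  rcases PSL2.dickson_psl p H with h | ⟨k, hk, ⟨hc, -⟩ | ⟨⟨φ⟩⟩⟩ | ⟨⟨φ⟩⟩ | ⟨⟨φ⟩⟩ | ⟨⟨φ⟩⟩ | ⟨S, -, hS⟩
  · exact absurd h hfix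
  · exact absurd hc hnc
  · left
    rw [Nat.card_congr φ.toEquiv, DihedralGroup.nat_card] at h8 ⊢
    rw [hg] at hk
    have h4 : 4 ∣ k := Nat.dvd_of_mul_dvd_mul_left Nat.two_pos (by simpa using h8)
    rcases hq with e | e <;> rw [e] at hk <;> rcases hk with hk | hk <;>
      have := Nat.le_of_dvd (by norm_num) hk <;>
      first
        | omega
        | (interval_cases k <;> simp_all)
  · exfalso
    rw [Nat.card_congr φ.toEquiv, nat_card_alternatingGroup, Nat.card_fin,
      show Nat.factorial 4 / 2 = 12 from rfl] at h8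
    omega
  · right
    rw [Nat.card_congr φ.toEquiv, Nat.card_perm, Nat.card_fin]; rfl
  · exfalso
    rw [Nat.card_congr φ.toEquiv, nat_card_alternatingGroup, Nat.card_fin,
      show Nat.factorial 5 / 2 = 60 from rfl] at h8
    omega
  · have hpow : Fintype.card F = Fintype.card S ^ Module.finrank S F := Module.card_eq_pow_finrank
    have h1 : 1 < Fintype.card S := Fintype.one_lt_card
    have hsz : Fintype.card S = Fintype.card F ∨ (Fintype.card F = 9 ∧ Fintype.card S = 3) := by
      have hle := Fintype.card_subtype_le (α := F) (fun x => x ∈ S)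
      have hm : Module.finrank S F ≠ 0 := Module.finrank_pos.ne'
      rcases Nat.lt_or_ge (Module.finrank S F) 2 with hm2 | hm2
      · left; rw [hpow, show Module.finrank S F = 1 by omega, pow_one]
      · right
        have h4 : Fintype.card S ^ 2 ≤ Fintype.card F :=
          hpow ▸ Nat.pow_le_pow_right (by omega) hm2
        have h3 : Fintype.card S = 2 ∨ Fintype.card S = 3 := by
          have : Fintype.card S ≤ 3 := by
            by_contra hc
            have := Nat.pow_le_pow_left (show 4 ≤ Fintype.card S by omega) 2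
            omega
          omega
        rcases h3 with h3 | h3 <;> rw [h3] at hpow
        · have hev : Even (Fintype.card F) := by rw [hpow]; exact (Nat.even_pow).2 ⟨even_two, hm⟩
          rw [Nat.even_iff] at hev; omega
        · refine ⟨?_, h3⟩
          rcases hq with e | e
          · exfalso
            rw [e] at hpow
            have : (3 : ℕ) ∣ 7 := hpow ▸ dvd_pow_self 3 hm
            omega
          · exact e
    have hcS := PSL2.card_psl (F := S)
    have hpgl := PSL2.card_pgl (F := S)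
    have hG := PSL2.card_psl (F := F)
    rw [hg] at hG
    have hlt : Nat.card H < Nat.card 𝔾 := by
      rcases lt_or_eq_of_le (Subgroup.card_le_card_group H) with h | h
      · exact h
      · exact absurd (Subgroup.eq_top_of_card_eq H h) hH
    rcases hsz with e | ⟨e9, e⟩
    · exfalso
      rw [e, hg] at hcS
      rw [e] at hpgl
      rcases hS with ⟨⟨φ⟩⟩ | ⟨⟨φ⟩⟩ <;> rw [Nat.card_congr φ.toEquiv] at hlt <;>
        rcases hq with e' | e' <;> rw [e'] at hcS hpgl hG <;> omega
    · rw [e, show Nat.gcd 2 (3 - 1) = 2 from rfl] at hcS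
      rw [e] at hpgl
      rcases hS with ⟨⟨φ⟩⟩ | ⟨⟨φ⟩⟩ <;> rw [Nat.card_congr φ.toEquiv] at h8 ⊢ <;> omega

/-- A stabiliser of even order gives no binary action, `q` odd. -/
theorem not_binary_odd_even {H : Subgroup 𝔾} (hodd : Odd (Fintype.card F))
    (h7 : 7 ≤ Fintype.card F) (hb : IsBinary H) (hH : H ≠ ⊤) {a : 𝔾} (ha : a ∈ H)
    (hord : orderOf a = 2) : False := by
  classical
  have h2 := PSL2.two_ne_zero_of_odd hodd
  have hodd' : Fintype.card F % 2 = 1 := Nat.odd_iff.1 hodd
  have hcc : ∀ i : 𝔾, orderOf i = 2 →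
      Nat.card ↥(Subgroup.centralizer ({i} : Set 𝔾)) =
        if Fintype.card F % 4 = 1 then Fintype.card F - 1 else Fintype.card F + 1 :=
    fun i hi => PSL2.card_centralizer_involution hodd hi
  by_cases hA : ∃ A S : SL2, tr A = 0 ∧ pr A ∈ H ∧ tr S = 0 ∧ A * S = -(S * A) ∧
      ¬ InAll H (pr A) (pr S)
  · obtain ⟨A, S, hA0, hAH, hS0, h, hns⟩ := hA
    refine not_binary_four h2 hb hA0 hS0 h hAH hns ?_
    rcases Nat.lt_or_ge (Fintype.card F) 11 with hlt | h11
    · right
      rw [hcc _ (orderOf_pr_of_tr h2 hA0)]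
      split_ifs <;> omega
    left
    intro g hg
    by_contra hne
    set C := Subgroup.centralizer ({pr A} : Set 𝔾) with hC
    set D := allThrough H (pr A) with hD
    have hgC : g ∉ C := fun hm => hne (Subgroup.mem_centralizer_singleton_iff.1 hm).symm
    have htop : C ⊔ D = ⊤ := by
      by_contra htop
      have := centralizer_maximal hodd h11 (orderOf_pr_of_tr h2 hA0) le_sup_left htop
      exact hgC (this.le (Subgroup.mem_sup_right hg))
    have hn : D.Normal := by
      rw [← Subgroup.normalizer_eq_top_iff, eq_top_iff, ← htop, sup_le_iff]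
      refine ⟨fun c hc => ?_, Subgroup.le_normalizer⟩
      have hc' := Subgroup.mem_centralizer_singleton_iff.1 hc
      rw [Subgroup.mem_normalizer_iff]
      intro d
      refine ⟨fun hd => (mem_allThrough.1 hd).conj_of_commute hc', fun hd => ?_⟩
      have := (mem_allThrough.1 hd).conj_of_commute (c := c⁻¹)
        ((show Commute c (pr A) from hc').inv_left.eq)
      show InAll H (pr A) d
      simpa [mul_assoc] using this
    have := Matrix.ProjectiveSpecialLinearGroup.rank_two_simple (F := F)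
      (by rw [Nat.card_eq_fintype_card]; omega)
    rcases hn.eq_bot_or_eq_top with e | e
    · have hm : pr A ∈ D := inAll_self H _
      rw [e, Subgroup.mem_bot] at hm
      have := orderOf_pr_of_tr h2 hA0
      rw [hm, orderOf_one] at this
      omega
    · refine hH (eq_top_iff.2 fun g _ => ?_)
      exact (mem_allThrough.1 (e ▸ Subgroup.mem_top g : g ∈ D)).mem hAH
  push Not at hA
  -- `H` contains the centralisers of its involutions
  have hle : ∀ i ∈ H, orderOf i = 2 → Subgroup.centralizer ({i} : Set 𝔾) ≤ H := by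
    intro i hi hord g hg
    obtain ⟨A, rfl⟩ := QuotientGroup.mk_surjective i
    have hA0 := tr_eq_zero_of_orderOf h2 hord
    obtain ⟨S, hS0, h⟩ := exists_anticommuting h2 hA0
    have hsH : pr S ∈ H := (hA A S hA0 hi hS0 h).mem hi
    obtain ⟨G, hG0, hG, e⟩ := centralizer_cases h2 hA0 h
      (Subgroup.mem_centralizer_singleton_iff.1 hg).symm
    have hGH : pr G ∈ H := (hA A G hA0 hi hG0 hG).mem hi
    rcases e with e | e
    · rwa [e]
    · rw [eq_mul_inv_of_mul_eq e]; exact mul_mem hGH (inv_mem hsH)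
  obtain ⟨A, rfl⟩ := QuotientGroup.mk_surjective a
  change orderOf (pr A) = 2 at hord
  change pr A ∈ H at ha
  have hA0 := tr_eq_zero_of_orderOf h2 hord
  obtain ⟨S, hS0, hAS⟩ := exists_anticommuting h2 hA0
  have hSo := orderOf_pr_of_tr h2 hS0
  have hcom : pr A * pr S = pr S * pr A :=
    (pr_eq_iff (A * S) (S * A)).2 (Or.inr (by rw [hAS, neg_neg]))
  have hSA : pr S ≠ pr A := fun e => by
    have hd := det_eq (A * A)
    have e' : A * A = -(A * A) := by
      rcases (pr_eq_iff S A).1 e with e1 | e1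
      · rw [← e1] at hAS; exact hAS
      · have hS' : S = -A := by rw [e1, neg_neg]
        rw [hS', mul_neg, neg_mul] at hAS
        exact (neg_inj.1 hAS).trans rfl
    have z : ∀ i j, (A * A) i j = 0 := fun i j => by
      have := congrArg (fun M : SL2 => M i j) e'
      simp only [neg_apply_two] at this
      exact mul_left_cancel₀ h2 (by linear_combination this)
    rw [z 0 0, z 0 1] at hd
    simp at hd
  have hsC : pr S ∈ Subgroup.centralizer ({pr A} : Set 𝔾) :=
    Subgroup.mem_centralizer_singleton_iff.2 hcom.symm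
  have hsH : pr S ∈ H := hle _ ha hord hsC
  have h4 : 4 < Nat.card ↥(Subgroup.centralizer ({pr A} : Set 𝔾)) := by
    rw [hcc _ hord]; split_ifs <;> omega
  rcases Nat.lt_or_ge (Fintype.card F) 11 with hlt | h11
  swap
  · have eH := centralizer_maximal hodd h11 hord (hle _ ha hord) hH
    refine hSA (eq_of_centralizer_eq h2 hord hSo ?_ h4).symm
    refine (Subgroup.eq_of_le_of_card_ge ((hle _ hsH hSo).trans eH.le) ?_).symm
    rw [hcc _ hord, hcc _ hSo]
  have hq : Fintype.card F = 7 ∨ Fintype.card F = 9 := by omega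
  have hc8 : ∀ i : 𝔾, orderOf i = 2 → Nat.card ↥(Subgroup.centralizer ({i} : Set 𝔾)) = 8 :=
    fun i hi => by rw [hcc i hi]; split_ifs <;> omega
  have h8 : 8 ∣ Nat.card H := hc8 _ hord ▸ Subgroup.card_dvd_of_le (hle _ ha hord)
  have hnc : ¬ IsCyclic H := fun hc => hSA (Eq.symm (by
    have := PSL2.eq_of_orderOf_two (a := (⟨pr A, ha⟩ : H)) (b := ⟨pr S, hsH⟩)
      (by rw [Subgroup.orderOf_mk]; exact hord) (by rw [Subgroup.orderOf_mk]; exact hSo)
    exact congrArg Subtype.val this))
  have hcard := card_cases_small hq hH h8 hnc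
    (fun {_} ⟨x, hx⟩ => not_fix_of_anticommute h2 hx ha hsH hAS)
  -- four involutions
  obtain ⟨g, hgC, hg1⟩ : ∃ g ∈ Subgroup.centralizer ({pr A} : Set 𝔾),
      g ∉ ({1, pr A, pr S, pr A * pr S} : Set 𝔾) := by
    by_contra! hcon
    have := Set.ncard_le_ncard
      (show ((Subgroup.centralizer ({pr A} : Set 𝔾)) : Set 𝔾) ⊆ _ from hcon) (Set.toFinite _)
    rw [← Nat.card_coe_set_eq] at this
    have b1 := Set.ncard_insert_le (1 : 𝔾) ({pr A, pr S, pr A * pr S} : Set 𝔾)
    have b2 := Set.ncard_insert_le (pr A) ({pr S, pr A * pr S} : Set 𝔾)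
    have b3 := Set.ncard_insert_le (pr S) ({pr A * pr S} : Set 𝔾)
    have b4 := Set.ncard_singleton (pr A * pr S)
    simp only [SetLike.coe_sort_coe] at this
    omega
  simp only [Set.mem_insert_iff, Set.mem_singleton_iff, not_or] at hg1
  obtain ⟨g1, ga, gs, gas⟩ := hg1
  have sqA := pr_mul_self h2 hA0
  have sqS := pr_mul_self h2 hS0
  obtain ⟨G, hG0, -, hGe⟩ := centralizer_cases h2 hA0 hAS
    (Subgroup.mem_centralizer_singleton_iff.1 hgC).symm
  have hGH : pr G ∈ H := by
    rcases hGe with e | e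
    · exact e ▸ hle _ ha hord hgC
    · exact e ▸ mul_mem (hle _ ha hord hgC) hsH
  have hASH : pr A * pr S ∈ H := mul_mem ha hsH
  have n1 : pr A * pr S ≠ 1 := fun e => hSA (by
    rw [mul_eq_one_iff_inv_eq, inv_eq_of_mul_eq_one_right sqA] at e; exact e.symm)
  have hASo : orderOf (pr A * pr S) = 2 := orderOf_eq_prime (by
    rw [sq, mul_assoc, ← mul_assoc (pr S), ← hcom, mul_assoc (pr A) (pr S), sqS, mul_one, sqA]) n1
  have nA : pr A ≠ 1 := fun e => by rw [e, orderOf_one] at hord; omega
  have nS : pr S ≠ 1 := fun e => by rw [e, orderOf_one] at hSo; omega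
  have nG : pr G ≠ pr A ∧ pr G ≠ pr S ∧ pr G ≠ pr A * pr S := by
    rcases hGe with e | e
    · exact ⟨e ▸ ga, e ▸ gs, e ▸ gas⟩
    · have eg : g = pr G * pr S := by
        rw [← e, mul_assoc, sqS, mul_one]
      refine ⟨fun h => gas (by rw [eg, h]), fun h => g1 (by rw [eg, h, sqS]), fun h => ga (by
        rw [eg, h, mul_assoc, sqS, mul_one])⟩
  let v : Fin 4 → 𝔾 := ![pr A, pr S, pr A * pr S, pr G]
  have hv : ∀ k, v k ∈ H ∧ orderOf (v k) = 2 := by
    intro k
    fin_cases k
    · exact ⟨ha, hord⟩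
    · exact ⟨hsH, hSo⟩
    · exact ⟨hASH, hASo⟩
    · exact ⟨hGH, orderOf_pr_of_tr h2 hG0⟩
  have hvinj : Function.Injective v := by
    have d1 : pr A * pr S ≠ pr A := fun e => nS (by simpa using e)
    have d2 : pr A * pr S ≠ pr S := fun e => nA (by simpa using e)
    obtain ⟨d3, d4, d5⟩ := nG
    intro i j e
    fin_cases i <;> fin_cases j <;>
      simp [v, hSA, hSA.symm, d1, d2, d3, d4, d5, d1.symm, d2.symm, d3.symm, d4.symm, d5.symm] at e ⊢
  have : Fact (Nat.Prime 2) := ⟨Nat.prime_two⟩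
  let K : Fin 4 → Subgroup H := fun k => (Subgroup.centralizer ({v k} : Set 𝔾)).subgroupOf H
  have hK : ∀ k, Nat.card (K k) = 8 := fun k => by
    rw [Nat.card_congr (Subgroup.subgroupOfEquivOfLe (hle _ (hv k).1 (hv k).2)).toEquiv,
      hc8 _ (hv k).2]
  have hidx : ∀ k, (K k).index = 1 ∨ (K k).index = 3 := fun k => by
    have := (K k).card_mul_index
    rw [hK k] at this
    omega
  let P : Fin 4 → Sylow 2 H := fun k =>
    (IsPGroup.of_card (n := 3) (hK k)).toSylow (by rcases hidx k with e | e <;> omega)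
  have hinj : Function.Injective P := by
    intro i j e
    have e' : K i = K j := congrArg (fun Q : Sylow 2 H => (Q : Subgroup H)) e
    refine hvinj (eq_of_centralizer_eq h2 (hv i).2 (hv j).2 ?_ (by rw [hc8 _ (hv i).2]; omega))
    have := (Subgroup.subgroupOf_inj).1 e'
    rwa [inf_eq_left.2 (hle _ (hv i).1 (hv i).2), inf_eq_left.2 (hle _ (hv j).1 (hv j).2)] at this
  have h43 := Nat.card_le_card_of_injective P hinj
  have hS := (P 0).card_dvd_index
  rw [Nat.card_eq_fintype_card, Fintype.card_fin] at h43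
  have : (P 0 : Subgroup H) = K 0 := rfl
  rw [this] at hS
  have := Nat.le_of_dvd (by rcases hidx 0 with e | e <;> omega) hS
  rcases hidx 0 with e | e <;> omega

/-- An element of trace `± 2` has order dividing the characteristic. -/
theorem pow_char_of_tr {p : ℕ} [Fact p.Prime] [CharP F p] {M : SL2} (h : tr M ^ 2 = 4) :
    pr M ^ p = 1 := by
  rw [pr, ← QuotientGroup.mk_pow, QuotientGroup.eq_one_iff]
  exact SpecLin.SLTwo.pow_char_mem_center p (by rw [trace_eq_tr]; exact h)

/-- The projective group has even order. -/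
theorem two_dvd_card_psl {K : Type*} [Field K] [Fintype K] :
    2 ∣ Nat.card (Matrix.ProjectiveSpecialLinearGroup (Fin 2) K) ∧
      2 ∣ Nat.card (ProjGenLinGroup (Fin 2) K) := by
  have h1 := PSL2.card_psl (F := K)
  have hpgl := PSL2.card_pgl (F := K)
  rcases Nat.even_or_odd (Fintype.card K) with he | ho
  · rw [PSL2.gcd_eq_one he, one_mul] at h1
    rw [h1, hpgl]
    exact ⟨(even_iff_two_dvd.1 he).mul_right _ |>.mul_left _,
      by exact dvd_mul_of_dvd_right (dvd_mul_of_dvd_left (even_iff_two_dvd.1 he) _) _⟩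
  · rw [PSL2.gcd_eq_two ho] at h1
    obtain ⟨k, hk⟩ := ho
    rw [hk] at h1 hpgl
    rw [show 2 * k + 1 + 1 = 2 * (k + 1) by ring, show 2 * k + 1 - 1 = 2 * k by omega] at h1 hpgl
    refine ⟨?_, ⟨(k + 1) * ((2 * k + 1) * (2 * k)), by rw [hpgl]; ring⟩⟩
    exact ⟨(k + 1) * ((2 * k + 1) * k), Nat.eq_of_mul_eq_mul_left Nat.two_pos (h1.trans (by ring))⟩

/-- A stabiliser of odd order gives no binary action, `q` odd. -/
theorem not_binary_odd_odd {H : Subgroup 𝔾} (hodd : Odd (Fintype.card F)) (hb : IsBinary H)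
    (hne : H ≠ ⊥) (hinv : ∀ a ∈ H, orderOf a ≠ 2) : False := by
  classical
  obtain ⟨p, hp⟩ := CharP.exists F
  have : Fact p.Prime := ⟨CharP.char_is_prime F p⟩
  have h2 := PSL2.two_ne_zero_of_odd hodd
  have htr : ∀ M : SL2, pr M ∈ H → tr M ≠ 0 := fun M hM h0 =>
    hinv _ hM (orderOf_pr_of_tr h2 h0)
  have heven : ¬ 2 ∣ Nat.card H := fun hd => by
    have : Fact (Nat.Prime 2) := ⟨Nat.prime_two⟩
    obtain ⟨g, hg⟩ := exists_prime_orderOf_dvd_card' (G := H) 2 hd
    exact hinv g g.2 (by rw [Subgroup.orderOf_coe, hg])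
  rcases PSL2.dickson_psl p H with ⟨x, hx⟩ | ⟨k, hk, ⟨hc, hcard⟩ | ⟨⟨φ⟩⟩⟩ | ⟨⟨φ⟩⟩ | ⟨⟨φ⟩⟩ |
    ⟨⟨φ⟩⟩ | ⟨S, -, hS⟩
  · obtain ⟨c, hup⟩ := exists_upper (H := H) hx
    obtain ⟨C, rfl⟩ := QuotientGroup.mk_surjective c
    have hne' : H.map (MulAut.conj (pr C)).toMonoidHom ≠ ⊥ := fun e => hne
      ((Subgroup.map_eq_bot_iff_of_injective _ (MulAut.conj (pr C)).injective).1 e)
    by_cases hs : ∃ M : SL2, pr M ∈ H.map (MulAut.conj (pr C)).toMonoidHom ∧ tr M ^ 2 ≠ 4
    · obtain ⟨M, hM, h4⟩ := hs
      refine not_binary_upper_semisimple (hb.map _) hup M hM ?_ h4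
      have hm := (mem_map_conj C M).1 hM
      rw [← tr_conj C⁻¹ M, inv_inv]
      exact htr _ hm
    · push Not at hs
      exact not_binary_upper_unipotent h2 (hb.map _) hne' hup hs
  · obtain ⟨x, hx, hx1⟩ := (Subgroup.bot_or_exists_ne_one H).resolve_left hne
    obtain ⟨X, rfl⟩ := QuotientGroup.mk_surjective x
    refine not_binary_of_good hb X hx (htr X hx) (fun h4 => hx1 ?_) (fun g hg => ?_) (Or.inl h2)
    · have h1 : (⟨pr X, hx⟩ : H) ^ p = 1 := Subtype.ext (pow_char_of_tr h4)
      have hk1 : (⟨pr X, hx⟩ : H) ^ k = 1 := hcard ▸ pow_card_eq_one'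
      have hco : Nat.Coprime p k := by
        rw [(Fact.out : p.Prime).coprime_iff_not_dvd]
        intro hpk
        obtain ⟨n, -, hn⟩ := FiniteField.card F p
        have hpq : p ∣ Fintype.card F := hn ▸ dvd_pow_self p n.ne_zero
        rw [PSL2.gcd_eq_two hodd] at hk
        have h2d : ∀ m, 2 ∣ m → m / 2 ∣ m := fun m hm => Nat.div_dvd_of_dvd hm
        have hq1 := Fintype.one_lt_card (α := F)
        rw [Nat.odd_iff] at hodd
        rcases hk with hk | hk
        · have := (hpk.trans hk).trans (h2d _ (by omega))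
          exact (Fact.out : p.Prime).not_dvd_one ((Nat.dvd_add_right hpq).1 this)
        · have := (hpk.trans hk).trans (h2d _ (by omega))
          exact (Fact.out : p.Prime).not_dvd_one (by
            have h := Nat.dvd_sub hpq this
            rwa [show Fintype.card F - (Fintype.card F - 1) = 1 by omega] at h)
      have : (⟨pr X, hx⟩ : H) ^ Nat.gcd p k = 1 := pow_gcd_eq_one.2 ⟨h1, hk1⟩
      rw [hco.gcd_eq_one, pow_one] at this
      exact congrArg Subtype.val this
    · let _ := hc.commGroup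
      exact congrArg Subtype.val (mul_comm (⟨pr X, hx⟩ : H) ⟨g, hg.mem hx⟩)
  · exact heven (by rw [Nat.card_congr φ.toEquiv, DihedralGroup.nat_card]; exact dvd_mul_right 2 k)
  · exact heven (by rw [Nat.card_congr φ.toEquiv, nat_card_alternatingGroup, Nat.card_fin]; decide)
  · exact heven (by rw [Nat.card_congr φ.toEquiv, Nat.card_perm, Nat.card_fin]; decide)
  · exact heven (by rw [Nat.card_congr φ.toEquiv, nat_card_alternatingGroup, Nat.card_fin]; decide)
  · rcases hS with ⟨⟨φ⟩⟩ | ⟨⟨φ⟩⟩ <;>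
      exact heven (by rw [Nat.card_congr φ.toEquiv]; first | exact two_dvd_card_psl.1 | exact two_dvd_card_psl.2)

/-- For odd `q` only the trivial stabiliser gives a binary action. -/
theorem not_binary_odd {H : Subgroup 𝔾} (hodd : Odd (Fintype.card F)) (h7 : 7 ≤ Fintype.card F)
    (hb : IsBinary H) (hH : H ≠ ⊤) (hne : H ≠ ⊥) : False := by
  by_cases h : ∃ a ∈ H, orderOf a = 2
  · obtain ⟨a, ha, hord⟩ := h
    exact not_binary_odd_even hodd h7 hb hH ha hord
  · push Not at h
    exact not_binary_odd_odd hodd hb hne h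

end CfsgLib.BinaryPSL
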