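import Cfsg.Agent.Lib.BinaryPSL.Even

/-!
# The binary coset actions of `PSL₂(q)`

The regular action, the action on non-zero vectors (`q` even) and the action on the cosets of an
irreducible group of order three.
-/

set_option autoImplicit false
set_option linter.unusedSectionVars false

namespace CfsgLib.BinaryPSL

open Matrix CfsgLib.BinaryAct

/-- A regular action is binary. -/
theorem isBinary_bot {G : Type*} [Group G] : IsBinary (⊥ : Subgroup G) := by
  intro n I J hn hp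
  have uniq : ∀ (x : G ⧸ (⊥ : Subgroup G)) (g h : G), g • x = h • x → g = h := by
    intro x g h e
    induction x using QuotientGroup.induction_on with | H x =>
    rw [MulAction.Quotient.smul_mk, MulAction.Quotient.smul_mk, QuotientGroup.eq, Subgroup.mem_bot,
      inv_mul_eq_one, smul_eq_mul, smul_eq_mul] at e
    exact mul_right_cancel e
  obtain ⟨g, hg0, -⟩ := hp ⟨0, by omega⟩ ⟨1, by omega⟩ (by simp [Fin.ext_iff])
  refine ⟨g, fun i => ?_⟩
  rcases eq_or_ne ⟨0, by omega⟩ i with rfl | hi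
  · exact hg0
  · obtain ⟨h, h0, hi'⟩ := hp _ i hi
    rwa [uniq _ g h (hg0.trans h0.symm)]

variable {F : Type*} [Field F] [Fintype F] [CharP F 2]

local notation "SL2" => Matrix.SpecialLinearGroup (Fin 2) F
local notation "𝔾" => Matrix.ProjectiveSpecialLinearGroup (Fin 2) F

/-- The translations. -/
def transl : Subgroup 𝔾 where
  carrier := {g | ∃ b : F, g = pr (uT b)}
  one_mem' := ⟨0, by rw [uT_zero]; rfl⟩
  mul_mem' := by
    rintro _ _ ⟨a, rfl⟩ ⟨b, rfl⟩
    exact ⟨a + b, congrArg pr (uT_mul a b)⟩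
  inv_mem' := by
    rintro _ ⟨a, rfl⟩
    exact ⟨-a, congrArg pr (uT_inv a)⟩

theorem card_transl : Nat.card (transl : Subgroup 𝔾) = Fintype.card F := by
  rw [← Nat.card_eq_fintype_card]
  refine (Nat.card_congr (Equiv.ofBijective
    (fun b : F => (⟨pr (uT b), b, rfl⟩ : (transl : Subgroup 𝔾))) ⟨fun a b e => ?_, ?_⟩)).symm
  · simpa using congrArg (fun M : SL2 => M 0 1) (pr_inj (congrArg Subtype.val e))
  · rintro ⟨_, b, rfl⟩
    exact ⟨b, rfl⟩

/-- Cosets of the translations are the non-zero vectors. -/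
theorem smul_transl_iff (g X Y : SL2) :
    pr g • ((pr X : 𝔾) : 𝔾 ⧸ (transl : Subgroup 𝔾)) = ((pr Y : 𝔾) : 𝔾 ⧸ (transl : Subgroup 𝔾)) ↔
      (g * X) 0 0 = Y 0 0 ∧ (g * X) 1 0 = Y 1 0 := by
  rw [BinaryAct.smul_eq_iff]
  show pr (Y⁻¹ * g * X) ∈ transl ↔ _
  rw [mul_assoc Y⁻¹]
  obtain ⟨a, -, c, -⟩ := mul_apply_two Y⁻¹ (g * X)
  obtain ⟨p, q, r, s⟩ := inv_apply Y
  constructor
  · rintro ⟨b, hb⟩
    have e : g * X = Y * uT b := by rw [← pr_inj hb, mul_inv_cancel_left]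
    obtain ⟨a', -, c', -⟩ := mul_apply_two Y (uT b)
    rw [e, a', c']
    simp
  · rintro ⟨h1, h3⟩
    refine ⟨(Y⁻¹ * (g * X)) 0 1, congrArg pr ?_⟩
    have hd := det_eq (Y⁻¹ * (g * X))
    have e00 : (Y⁻¹ * (g * X)) 0 0 = 1 := by
      rw [a, h1, h3, p, q]; linear_combination det_eq Y
    have e10 : (Y⁻¹ * (g * X)) 1 0 = 0 := by
      rw [c, h1, h3, r, s]; ring
    rw [e00, e10, mul_zero, sub_zero, one_mul] at hd
    exact ext_two (by simp [e00]) (by simp) (by simp [e10]) (by simp [hd])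

/-- The action on non-zero vectors is binary. -/
theorem isBinary_transl : IsBinary (transl : Subgroup 𝔾) := by
  intro n I J hn hp
  have lift : ∀ x : 𝔾 ⧸ (transl : Subgroup 𝔾), ∃ X : SL2, ((pr X : 𝔾) : 𝔾 ⧸ (transl : Subgroup 𝔾)) = x := by
    intro x
    induction x using QuotientGroup.induction_on with | H x =>
    obtain ⟨X, rfl⟩ := QuotientGroup.mk_surjective x
    exact ⟨X, rfl⟩
  choose P hP using fun i => lift (I i)
  choose Q hQ using fun i => lift (J i)
  have hp' : ∀ i j, i ≠ j → ∃ g : SL2, ((g * P i) 0 0 = Q i 0 0 ∧ (g * P i) 1 0 = Q i 1 0) ∧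
      (g * P j) 0 0 = Q j 0 0 ∧ (g * P j) 1 0 = Q j 1 0 := by
    intro i j hij
    obtain ⟨g, h1, h2⟩ := hp i j hij
    obtain ⟨G, rfl⟩ := QuotientGroup.mk_surjective g
    rw [← hP, ← hQ] at h1 h2
    exact ⟨G, (smul_transl_iff _ _ _).1 h1, (smul_transl_iff _ _ _).1 h2⟩
  suffices h : ∃ g : SL2, ∀ i, (g * P i) 0 0 = Q i 0 0 ∧ (g * P i) 1 0 = Q i 1 0 by
    obtain ⟨g, hg⟩ := h
    exact ⟨pr g, fun i => by rw [← hP, ← hQ]; exact (smul_transl_iff _ _ _).2 (hg i)⟩
  -- the area spanned by two of the vectors is preserved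
  have harea : ∀ i j, Q i 0 0 * Q j 1 0 - Q i 1 0 * Q j 0 0 =
      P i 0 0 * P j 1 0 - P i 1 0 * P j 0 0 := by
    intro i j
    rcases eq_or_ne i j with rfl | hij
    · ring
    obtain ⟨g, ⟨a, b⟩, c, d⟩ := hp' i j hij
    rw [(mul_apply_two g _).1] at a c
    rw [(mul_apply_two g _).2.2.1] at b d
    rw [← a, ← b, ← c, ← d]
    linear_combination (P i 0 0 * P j 1 0 - P i 1 0 * P j 0 0) * det_eq g
  by_cases hdep : ∃ i j, P i 0 0 * P j 1 0 - P i 1 0 * P j 0 0 ≠ 0
  · obtain ⟨i, j, hd⟩ := hdep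
    have hij : i ≠ j := fun e => hd (by subst e; ring)
    obtain ⟨g, ⟨a, b⟩, c, d⟩ := hp' i j hij
    refine ⟨g, fun k => ?_⟩
    rw [(mul_apply_two g _).1] at a c ⊢
    rw [(mul_apply_two g _).2.2.1] at b d ⊢
    have hg := det_eq g
    have hik := harea i k
    have hjk := harea j k
    rw [← harea] at hd
    constructor
    · refine mul_left_cancel₀ hd ?_
      rw [← a, ← b] at hik ⊢
      rw [← c, ← d] at hjk ⊢
      linear_combination (g 0 0 * P j 0 0 + g 0 1 * P j 1 0) *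
          ((P i 0 0 * P k 1 0 - P i 1 0 * P k 0 0) * hg) -
        (g 0 0 * P i 0 0 + g 0 1 * P i 1 0) * ((P j 0 0 * P k 1 0 - P j 1 0 * P k 0 0) * hg) -
        (g 0 0 * P j 0 0 + g 0 1 * P j 1 0) * hik + (g 0 0 * P i 0 0 + g 0 1 * P i 1 0) * hjk
    · refine mul_left_cancel₀ hd ?_
      rw [← a, ← b] at hik ⊢
      rw [← c, ← d] at hjk ⊢
      linear_combination (g 1 0 * P j 0 0 + g 1 1 * P j 1 0) *
          ((P i 0 0 * P k 1 0 - P i 1 0 * P k 0 0) * hg) -
        (g 1 0 * P i 0 0 + g 1 1 * P i 1 0) * ((P j 0 0 * P k 1 0 - P j 1 0 * P k 0 0) * hg) -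
        (g 1 0 * P j 0 0 + g 1 1 * P j 1 0) * hik + (g 1 0 * P i 0 0 + g 1 1 * P i 1 0) * hjk
  · push Not at hdep
    obtain ⟨g, ⟨a, b⟩, -⟩ := hp' ⟨0, by omega⟩ ⟨1, by omega⟩ (by simp [Fin.ext_iff])
    refine ⟨g, fun k => ?_⟩
    rcases eq_or_ne ⟨0, by omega⟩ k with rfl | hk
    · exact ⟨a, b⟩
    obtain ⟨g', ⟨a', b'⟩, c', d'⟩ := hp' _ k hk
    set z : Fin n := ⟨0, by omega⟩
    have e := hdep z k
    rw [(mul_apply_two g _).1] at a ⊢
    rw [(mul_apply_two g _).2.2.1] at b ⊢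
    rw [(mul_apply_two g' _).1] at a' c'
    rw [(mul_apply_two g' _).2.2.1] at b' d'
    have hz := det_eq (P z)
    rw [← c', ← d']
    constructor
    · linear_combination ((P z 1 1) * P k 0 0 - P z 0 1 * P k 1 0) * (a.trans a'.symm) -
        ((g 0 0 - g' 0 0) * P k 0 0 + (g 0 1 - g' 0 1) * P k 1 0) * hz +
        ((g 0 1 - g' 0 1) * P z 1 1 + (g 0 0 - g' 0 0) * P z 0 1) * e
    · linear_combination ((P z 1 1) * P k 0 0 - P z 0 1 * P k 1 0) * (b.trans b'.symm) -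
        ((g 1 0 - g' 1 0) * P k 0 0 + (g 1 1 - g' 1 1) * P k 1 0) * hz +
        ((g 1 1 - g' 1 1) * P z 1 1 + (g 1 0 - g' 1 0) * P z 0 1) * e

/-- A Sylow `2`-subgroup gives a binary action. -/
theorem isBinary_sylow (P : Sylow 2 𝔾) : IsBinary (P : Subgroup 𝔾) := by
  obtain ⟨P₀, h₀⟩ := exists_sylow_of_card (card_transl (F := F))
  have : Fact (Nat.Prime 2) := ⟨Nat.prime_two⟩
  obtain ⟨c, rfl⟩ := MulAction.exists_smul_eq 𝔾 P₀ P
  rw [Sylow.coe_subgroup_smul, ← h₀]
  exact isBinary_transl.map c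

/-- Elements of order three with product of order three coincide. -/
theorem eq_of_tr_one (hw : ¬ ∃ w : F, w * w + w + 1 = 0) {K L : SL2} (hK : tr K = 1) (hL : tr L = 1)
    (hKL : tr (K * L) = 1) : K = L := by
  have h2 : (2 : F) = 0 := CharTwo.two_eq_zero
  obtain ⟨Z, hZ⟩ : ∃ Z : SL2, (Z : Matrix (Fin 2) (Fin 2) F) = !![0, 1; 1, 1] :=
    ⟨⟨_, by simp [Matrix.det_fin_two, CharTwo.neg_eq]⟩, rfl⟩
  have hZ1 : tr Z = 1 := by simp [tr, hZ]
  have ns : ∀ A : SL2, tr A = 1 → ∀ s : F, (A : Matrix (Fin 2) (Fin 2) F) ≠ s • 1 := fun A hA =>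
    (not_scal_iff A).1 fun h => by
      have := tr_sq_eq_four_of_scal h
      rw [hA, four_zero, one_pow] at this
      exact one_ne_zero this
  obtain ⟨C, hC⟩ := isConj_iff.1 (SpecLin.SLTwo.isConj_of_trace_eq (M := K) (N := Z) (Or.inl h2)
    (ns K hK) (ns Z hZ1) (by rw [trace_eq_tr, trace_eq_tr, hK, hZ1]))
  suffices h : C * L * C⁻¹ = Z by
    rw [← hC] at h
    exact (mul_left_cancel (mul_right_cancel h)).symm
  set M := C * L * C⁻¹
  have hM : tr M = 1 := by rw [tr_conj, hL]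
  have hZM : tr (Z * M) = 1 := by
    rw [← hC, show C * K * C⁻¹ * M = C * (K * L) * C⁻¹ by simp only [M]; group, tr_conj, hKL]
  obtain ⟨a, -, -, d⟩ := mul_apply_two Z M
  rw [tr, a, d] at hZM
  simp [hZ] at hZM
  rw [tr] at hM
  have hd := det_eq M
  have e : M 0 0 * M 0 0 + M 0 0 * (M 0 1 + 1) + (M 0 1 + 1) * (M 0 1 + 1) = 0 := by
    linear_combination -hd + (M 0 0 + M 0 1) * hM - M 0 1 * hZM +
      (M 0 0 + M 0 1 ^ 2 + M 0 1) * h2
  have h00 : M 0 0 = 0 := by
    by_contra h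
    refine hw ⟨(M 0 1 + 1) / M 0 0, ?_⟩
    field_simp
    linear_combination e
  rw [h00] at e hM
  have h01 : M 0 1 = 1 := by
    have : (M 0 1 + 1) * (M 0 1 + 1) = 0 := by linear_combination e
    rw [mul_self_eq_zero, CharTwo.add_eq_zero] at this
    exact this
  have h11 : M 1 1 = 1 := by linear_combination hM
  refine ext_two (by simp [hZ, h00]) (by simp [hZ, h01]) ?_ (by simp [hZ, h11])
  rw [h00, h01, h11] at hd
  simp [hZ]
  linear_combination -hd + (-1 : F) * h2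

/-- An irreducible group of order three gives a binary action. -/
theorem isBinary_order_three (hw : ¬ ∃ w : F, w * w + w + 1 = 0) {H : Subgroup 𝔾}
    (hH : Nat.card H = 3) : IsBinary H := by
  classical
  have h2 : (2 : F) = 0 := CharTwo.two_eq_zero
  have : Fact (Nat.Prime 3) := ⟨Nat.prime_three⟩
  have gen : ∀ a b : 𝔾, a ∈ H → b ∈ H → a ≠ 1 → ∃ m : ℕ, b = a ^ m := by
    intro a b ha hb ha1
    obtain ⟨m, hm⟩ := mem_powers_of_prime_card (g := (⟨a, ha⟩ : H)) (g' := ⟨b, hb⟩) hH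
      fun e => ha1 (congrArg Subtype.val e)
    exact ⟨m, (congrArg Subtype.val hm).symm⟩
  -- the stabilisers of points
  have trone : ∀ (x : 𝔾 ⧸ H) (K : SL2), pr K • x = x → K ≠ 1 →
      tr K = 1 ∧ ∀ a : 𝔾, a • x = x → ∃ m : ℕ, a = pr K ^ m := by
    intro x
    induction x using QuotientGroup.induction_on with | H x =>
    intro K hK hK1
    rw [BinaryAct.smul_eq_iff] at hK
    refine ⟨?_, fun a ha => ?_⟩
    · have h3 : pr K ^ 3 = 1 := by
        have e : (x⁻¹ * pr K * x) ^ 3 = 1 := by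
          rw [← hH]; exact congrArg Subtype.val (pow_card_eq_one' (x := (⟨_, hK⟩ : H)))
        have e' : (x⁻¹ * pr K * x⁻¹⁻¹) ^ 3 = 1 := by rwa [inv_inv]
        rw [conj_pow, conj_eq_one_iff] at e'
        exact e'
      have e : K * K = K⁻¹ := eq_inv_of_mul_eq_one_left (pr_inj (by
        show pr K * pr K * pr K = 1
        rw [← h3, pow_succ, sq]))
      have ht := tr_sq K
      rw [e, tr_inv, h2, sub_zero] at ht
      rcases eq_or_ne (tr K) 0 with h0 | h0
      · refine absurd ?_ hK1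
        have := mul_self_iff.2 h0
        rw [e, inv_eq_one] at this
        exact this
      · exact mul_left_cancel₀ h0 (by rw [mul_one]; exact ht.symm)
    · rw [BinaryAct.smul_eq_iff] at ha
      have hne : x⁻¹ * pr K * x ≠ 1 := fun e => hK1 (pr_inj (by
        calc pr K = x * (x⁻¹ * pr K * x) * x⁻¹ := by group
          _ = 1 := by rw [e]; group
          _ = pr 1 := rfl))
      obtain ⟨m, hm⟩ := gen _ _ hK ha hne
      refine ⟨m, ?_⟩
      calc a = x * (x⁻¹ * a * x) * x⁻¹ := by group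
        _ = (x * (x⁻¹ * pr K * x) * x⁻¹) ^ m := by rw [hm, conj_pow]
        _ = pr K ^ m := by congr 1; group
  intro n I J hn hp
  let z : Fin n := ⟨0, by omega⟩
  set b : 𝔾 ⧸ H := ((1 : 𝔾) : 𝔾 ⧸ H) with hbdef
  have hfix : ∀ h ∈ H, h • b = b := fun h hh => (BinaryAct.smul_eq_iff _ _ _).2 (by simpa using hh)
  have hfix' : ∀ h, h • b = b → h ∈ H := fun h hh => by
    simpa using (BinaryAct.smul_eq_iff _ _ _).1 hh
  obtain ⟨σ, hσ⟩ := MulAction.exists_smul_eq 𝔾 (I z) b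
  obtain ⟨τ, hτ⟩ := MulAction.exists_smul_eq 𝔾 (J z) b
  set I' := fun i => σ • I i
  set J' := fun i => τ • J i
  suffices h : ∃ h ∈ H, ∀ i, h • I' i = J' i by
    obtain ⟨h, -, hh⟩ := h
    refine ⟨τ⁻¹ * h * σ, fun i => ?_⟩
    rw [mul_smul, mul_smul, show h • σ • I i = τ • J i from hh i, inv_smul_smul]
  have hp' : ∀ i j, i ≠ j → ∃ g, g • I' i = J' i ∧ g • I' j = J' j := fun i j hij => by
    obtain ⟨g, h1, h2⟩ := hp i j hij
    exact ⟨τ * g * σ⁻¹, by simp only [I', J', mul_smul, inv_smul_smul, h1],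
      by simp only [I', J', mul_smul, inv_smul_smul, h2]⟩
  have hS : ∀ i, ∃ h ∈ H, h • I' i = J' i := by
    intro i
    rcases eq_or_ne z i with rfl | hi
    · exact ⟨1, one_mem H, by rw [one_smul]; exact hσ.trans hτ.symm⟩
    · obtain ⟨g, h1, h2⟩ := hp' z i hi
      refine ⟨g, hfix' g ?_, h2⟩
      have e1 : I' z = b := hσ
      have e2 : J' z = b := hτ
      rwa [e1, e2] at h1
  choose s hsH hs using hS
  by_cases hall : ∀ i, ∀ h ∈ H, h • I' i = J' i
  · exact ⟨1, one_mem H, fun i => hall i 1 (one_mem H)⟩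
  push Not at hall
  obtain ⟨i, h₀, hh₀, hne₀⟩ := hall
  refine ⟨s i, hsH i, fun j => ?_⟩
  rcases eq_or_ne i j with rfl | hij
  · exact hs i
  by_contra hjne
  have nofix : ∀ k, (∃ h ∈ H, h • I' k ≠ J' k) → ∀ a ∈ H, a • I' k = I' k → a = 1 := by
    rintro k ⟨h, hh, hk⟩ a ha hak
    by_contra ha1
    obtain ⟨m, hm⟩ := gen a ((s k)⁻¹ * h) ha (mul_mem (inv_mem (hsH k)) hh) ha1
    refine hk ?_
    have e : ((s k)⁻¹ * h) • I' k = I' k := by
      rw [hm]
      exact MulAction.mem_stabilizer_iff.1 (pow_mem (MulAction.mem_stabilizer_iff.2 hak) m)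
    rw [mul_smul, inv_smul_eq_iff] at e
    rw [e, hs k]
  obtain ⟨g, g1, g2⟩ := hp' i j hij
  obtain ⟨K, hK⟩ := QuotientGroup.mk_surjective ((s i)⁻¹ * g)
  obtain ⟨L, hL⟩ := QuotientGroup.mk_surjective ((s j)⁻¹ * g)
  have kfix : pr K • I' i = I' i := by
    rw [show pr K = _ from hK, mul_smul, g1, inv_smul_eq_iff, hs i]
  have lfix : pr L • I' j = I' j := by
    rw [show pr L = _ from hL, mul_smul, g2, inv_smul_eq_iff, hs j]
  -- `d = L K⁻¹` is a non-trivial element of `H`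
  set d := (s j)⁻¹ * s i with hd
  have hdH : d ∈ H := mul_mem (inv_mem (hsH j)) (hsH i)
  have hd1 : d ≠ 1 := fun e => hjne (by rw [← inv_mul_eq_one.1 e]; exact hs j)
  have eLK : pr (L * K⁻¹) = d := by
    show pr L * (pr K)⁻¹ = d
    rw [show pr L = _ from hL, show pr K = _ from hK, hd]; group
  have hK1 : K ≠ 1 := by
    rintro rfl
    have : d • I' j = I' j := by
      rw [← eLK, inv_one, mul_one]; exact lfix
    exact hd1 (nofix j ⟨s i, hsH i, hjne⟩ d hdH this)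
  have hL1 : L ≠ 1 := by
    rintro rfl
    have : d⁻¹ • I' i = I' i := by
      rw [← eLK, one_mul, ← QuotientGroup.mk_inv, inv_inv]; exact kfix
    exact inv_ne_one.2 hd1 (nofix i ⟨h₀, hh₀, hne₀⟩ d⁻¹ (inv_mem hdH) this)
  obtain ⟨tK, -⟩ := trone _ K kfix hK1
  obtain ⟨tL, -⟩ := trone _ L lfix hL1
  have hdb : pr (L * K⁻¹) • b = b := eLK ▸ hfix d hdH
  have hLK1 : L * K⁻¹ ≠ 1 := fun e => hd1 (by rw [← eLK, e]; rfl)
  obtain ⟨tLK, -⟩ := trone b (L * K⁻¹) hdb hLK1
  have e : L = K⁻¹ := eq_of_tr_one hw tL (by rw [tr_inv, tK]) tLK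
  -- then `d = L²` fixes the point `j`
  refine hd1 (nofix j ⟨s i, hsH i, hjne⟩ d hdH ?_)
  rw [← eLK, ← e]
  show (pr L * pr L) • I' j = I' j
  rw [mul_smul, lfix, lfix]

/-- No element of order three in the multiplicative group for `q = 2^odd`. -/
theorem no_omega_iff {n : ℕ} (hn : Fintype.card F = 2 ^ n) :
    (¬ ∃ w : F, w * w + w + 1 = 0) ↔ Odd n := by
  classical
  have h2 : (2 : F) = 0 := CharTwo.two_eq_zero
  have : Fact (Nat.Prime 3) := ⟨Nat.prime_three⟩
  have hmod : ∀ k, 2 ^ (2 * k) % 3 = 1 := fun k => by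
    rw [pow_mul, Nat.pow_mod]; norm_num
  have hunits : Nat.card Fˣ = 2 ^ n - 1 := by
    rw [Nat.card_units, Nat.card_eq_fintype_card, hn]
  constructor
  · intro hw
    by_contra he
    obtain ⟨k, rfl⟩ := even_iff_exists_two_mul.1 (Nat.not_odd_iff_even.1 he)
    have hd : 3 ∣ Nat.card Fˣ := by
      rw [hunits]
      have := hmod k
      omega
    obtain ⟨u, hu⟩ := exists_prime_orderOf_dvd_card' (G := Fˣ) 3 hd
    have h3 : (u : F) ^ 3 = 1 := by
      have := congrArg Units.val (pow_orderOf_eq_one u)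
      rw [hu] at this; simpa using this
    have h1 : (u : F) ≠ 1 := fun e => by
      rw [Units.val_eq_one.1 e, orderOf_one] at hu; omega
    refine hw ⟨u, mul_left_cancel₀ (sub_ne_zero.2 h1) ?_⟩
    linear_combination h3
  · rintro ⟨k, rfl⟩ ⟨w, hw⟩
    have hw0 : w ≠ 0 := by rintro rfl; simp at hw
    have ho : orderOf (Units.mk0 w hw0) = 3 := orderOf_eq_prime
      (Units.ext (by simp only [Units.val_pow_eq_pow_val, Units.val_mk0, Units.val_one]
                     linear_combination (w - 1) * hw))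
      (fun e => by
        have hw1 : w = 1 := by simpa using congrArg Units.val e
        rw [hw1] at hw
        exact one_ne_zero (α := F) (by linear_combination hw - h2))
    have hd := orderOf_dvd_natCard (Units.mk0 w hw0)
    rw [ho, hunits] at hd
    have := hmod k
    rw [pow_succ] at hd
    omega

end CfsgLib.BinaryPSL
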