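import Cfsg.Agent.Lib.BinaryPSL.Basic
import Cfsg.Agent.Lib.SuzukiGroup.BinaryActions

/-!
# Binary actions with stabiliser fixing a point of the projective line

With a semisimple element the triangle criterion applies; for odd `q` there is a triangle of
unipotent elements; for even `q` only the full translation group survives.
-/

set_option autoImplicit false
set_option linter.unusedSectionVars false

namespace CfsgLib.BinaryPSL

open Matrix CfsgLib.BinaryAct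

variable {F : Type*} [Field F]

local notation "SL2" => Matrix.SpecialLinearGroup (Fin 2) F
local notation "𝔾" => Matrix.ProjectiveSpecialLinearGroup (Fin 2) F

/-- Upper unitriangular elements. -/
def uT (b : F) : SL2 := ⟨!![1, b; 0, 1], by simp [Matrix.det_fin_two]⟩

/-- Lower unitriangular elements. -/
def lT (c : F) : SL2 := ⟨!![1, 0; c, 1], by simp [Matrix.det_fin_two]⟩

/-- Diagonal elements. -/
def dT (a : F) (ha : a ≠ 0) : SL2 := ⟨!![a, 0; 0, a⁻¹], by simp [Matrix.det_fin_two, ha]⟩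

/-- The Weyl element. -/
def wT : SL2 := ⟨!![0, 1; -1, 0], by simp [Matrix.det_fin_two]⟩

theorem uT_apply (b : F) :
    (uT b : SL2) 0 0 = 1 ∧ (uT b : SL2) 0 1 = b ∧ (uT b : SL2) 1 0 = 0 ∧ (uT b : SL2) 1 1 = 1 :=
  ⟨rfl, rfl, rfl, rfl⟩

theorem lT_apply (c : F) :
    (lT c : SL2) 0 0 = 1 ∧ (lT c : SL2) 0 1 = 0 ∧ (lT c : SL2) 1 0 = c ∧ (lT c : SL2) 1 1 = 1 :=
  ⟨rfl, rfl, rfl, rfl⟩

theorem dT_apply (a : F) (ha : a ≠ 0) :
    (dT a ha : SL2) 0 0 = a ∧ (dT a ha : SL2) 0 1 = 0 ∧ (dT a ha : SL2) 1 0 = 0 ∧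
      (dT a ha : SL2) 1 1 = a⁻¹ :=
  ⟨rfl, rfl, rfl, rfl⟩

theorem wT_apply :
    (wT : SL2) 0 0 = 0 ∧ (wT : SL2) 0 1 = 1 ∧ (wT : SL2) 1 0 = -1 ∧ (wT : SL2) 1 1 = 0 :=
  ⟨rfl, rfl, rfl, rfl⟩

theorem uT_mul (b c : F) : uT b * uT c = uT (b + c) := by
  obtain ⟨a1, a2, a3, a4⟩ := mul_apply_two (uT b) (uT c)
  obtain ⟨p1, p2, p3, p4⟩ := uT_apply b
  obtain ⟨q1, q2, q3, q4⟩ := uT_apply c
  obtain ⟨r1, r2, r3, r4⟩ := uT_apply (b + c)
  refine ext_two ?_ ?_ ?_ ?_ <;> simp only [a1, a2, a3, a4, p1, p2, p3, p4, q1, q2, q3, q4, r1, r2, r3, r4] <;> ring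

theorem uT_zero : uT (0 : F) = 1 := ext_two (by simp [uT]) (by simp [uT]) (by simp [uT]) (by simp [uT])

theorem uT_inv (b : F) : (uT b)⁻¹ = uT (-b) :=
  inv_eq_of_mul_eq_one_right (by rw [uT_mul, add_neg_cancel, uT_zero])

@[simp] theorem coe_uT (b : F) :
    ((uT b : SL2) : Matrix (Fin 2) (Fin 2) F) = !![1, b; 0, 1] := rfl

@[simp] theorem coe_lT (c : F) :
    ((lT c : SL2) : Matrix (Fin 2) (Fin 2) F) = !![1, 0; c, 1] := rfl

@[simp] theorem coe_dT (a : F) (ha : a ≠ 0) :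
    ((dT a ha : SL2) : Matrix (Fin 2) (Fin 2) F) = !![a, 0; 0, a⁻¹] := rfl

@[simp] theorem coe_wT : ((wT : SL2) : Matrix (Fin 2) (Fin 2) F) = !![0, 1; -1, 0] := rfl

theorem lT_inv (c : F) : (lT c)⁻¹ = lT (-c) := by
  obtain ⟨a1, a2, a3, a4⟩ := inv_apply (lT c)
  exact ext_two (by simp [a1]) (by simp [a2]) (by simp [a3]) (by simp [a4])

/-- Every element of `H` is upper triangular. -/
def UpperIn (H : Subgroup 𝔾) : Prop := ∀ M : SL2, pr M ∈ H → M 1 0 = 0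

theorem mem_map_conj {H : Subgroup 𝔾} (C M : SL2) :
    pr M ∈ H.map (MulAut.conj (pr C)).toMonoidHom ↔ pr (C⁻¹ * M * C) ∈ H := by
  rw [Subgroup.mem_map_equiv, MulAut.conj_symm_apply]
  rfl

variable [Fintype F]

/-- A point stabilised subgroup with a semisimple element is not binary. -/
theorem not_binary_upper_semisimple {H : Subgroup 𝔾} (hb : IsBinary H) (hup : UpperIn H) (M : SL2)
    (hM : pr M ∈ H) (h0 : tr M ≠ 0) (h4 : tr M ^ 2 ≠ 4) : False := by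
  have hM10 := hup M hM
  have hd := det_eq M
  rw [hM10, mul_zero, sub_zero] at hd
  have hne : M 0 0 - M 1 1 ≠ 0 := fun h => h4 (by
    rw [tr]; linear_combination (M 0 0 - M 1 1) * h + 4 * hd)
  set β := M 0 1 / (M 0 0 - M 1 1) with hβ
  set H' := H.map (MulAut.conj (pr (uT β))).toMonoidHom with hH'
  have hup' : UpperIn H' := fun N hN => by
    have := hup _ ((mem_map_conj _ _).1 hN)
    obtain ⟨-, -, a3, -⟩ := mul_apply_two ((uT β)⁻¹ * N) (uT β)
    obtain ⟨-, -, b3, b4⟩ := mul_apply_two (uT β)⁻¹ N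
    rw [uT_inv] at *
    rw [a3, b3, b4] at this
    simpa using this
  set D := uT β * M * (uT β)⁻¹ with hD
  have hDH : pr D ∈ H' := (mem_map_conj _ _).2 (by
    rw [hD, show (uT β)⁻¹ * (uT β * M * (uT β)⁻¹) * uT β = M by group]; exact hM)
  have htr : tr D = tr M := tr_conj _ _
  have hD10 := hup' D hDH
  have hD01 : D 0 1 = 0 := by
    obtain ⟨-, a2, -, -⟩ := mul_apply_two (uT β * M) (uT β)⁻¹
    obtain ⟨b1, b2, -, -⟩ := mul_apply_two (uT β) M
    rw [hD, a2, b1, b2, uT_inv]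
    simp [hM10, hβ]
    field_simp
    ring
  refine not_binary_of_good (hb.map _) D hDH (htr.symm ▸ h0) (htr.symm ▸ h4) (fun g hg => ?_) ?_
  · obtain ⟨G, rfl⟩ := QuotientGroup.mk_surjective g
    have hG10 := hup' G (hg.mem hDH)
    have hW : pr (wT : SL2)⁻¹ * pr D * pr wT ∈ H' := by
      have e : (wT : SL2)⁻¹ * D * wT = D⁻¹ := by
        obtain ⟨a1, a2, a3, a4⟩ := inv_apply (wT : SL2)
        obtain ⟨b1, b2, b3, b4⟩ := inv_apply D
        obtain ⟨c1, c2, c3, c4⟩ := mul_apply_two ((wT : SL2)⁻¹ * D) wT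
        obtain ⟨d1, d2, d3, d4⟩ := mul_apply_two (wT : SL2)⁻¹ D
        refine ext_two ?_ ?_ ?_ ?_ <;>
          simp only [c1, c2, c3, c4, d1, d2, d3, d4, a1, a2, a3, a4, b1, b2, b3, b4] <;>
          simp [hD01, hD10]
      show pr ((wT : SL2)⁻¹ * D * wT) ∈ H'
      rw [e]; exact inv_mem hDH
    have hG01 : G 0 1 = 0 := by
      have h := hup' ((wT : SL2)⁻¹ * G * wT) (hg (pr wT) hW)
      obtain ⟨-, -, c3, -⟩ := mul_apply_two ((wT : SL2)⁻¹ * G) wT
      obtain ⟨-, -, d3, d4⟩ := mul_apply_two (wT : SL2)⁻¹ G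
      obtain ⟨a1, a2, a3, a4⟩ := inv_apply (wT : SL2)
      rw [c3, d3, d4, a3, a4] at h
      simpa  using h
    show pr (D * G) = pr (G * D)
    congr 1
    obtain ⟨c1, c2, c3, c4⟩ := mul_apply_two D G
    obtain ⟨d1, d2, d3, d4⟩ := mul_apply_two G D
    refine ext_two ?_ ?_ ?_ ?_ <;>
      simp only [c1, c2, c3, c4, d1, d2, d3, d4, hD01, hD10, hG01, hG10] <;> ring
  · rcases eq_or_ne (2 : F) 0 with h2 | h2
    · rcases eq_or_ne (tr M) 1 with ht | ht
      · refine Or.inr (Or.inr ⟨M 0 0, ?_⟩)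
        rw [tr] at ht
        linear_combination (M 0 0) * ht - hd + (M 0 0) * h2
      · exact Or.inr (Or.inl (htr ▸ ht))
    · exact Or.inl h2

/-- For odd `q` a non-trivial group of translations is not binary. -/
theorem not_binary_upper_unipotent {H : Subgroup 𝔾} (h2 : (2 : F) ≠ 0) (hb : IsBinary H)
    (hne : H ≠ ⊥) (hup : UpperIn H) (hu : ∀ M : SL2, pr M ∈ H → tr M ^ 2 = 4) : False := by
  have hshape : ∀ M : SL2, pr M ∈ H → ∃ b, pr M = pr (uT b) := by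
    intro M hM
    have h10 := hup M hM
    have hd := det_eq M
    rw [h10, mul_zero, sub_zero] at hd
    have he : M 0 0 = M 1 1 := by
      have : (M 0 0 - M 1 1) ^ 2 = 0 := by
        have := hu M hM
        rw [tr] at this
        linear_combination this - 4 * hd
      exact sub_eq_zero.1 (pow_eq_zero_iff two_ne_zero |>.1 this)
    rw [← he] at hd
    refine ⟨M 0 1 * M 0 0, (pr_eq_iff _ _).2 ?_⟩
    rcases mul_self_eq_one_iff.1 hd with h | h
    · left; exact ext_two (by simp [h]) (by simp [h]) (by simp [h10])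
        (by simp [← he, h])
    · right; exact ext_two (by simp [neg_apply_two, h]) (by simp [neg_apply_two, h])
        (by simp [neg_apply_two, h10]) (by simp [neg_apply_two, ← he, h])
  obtain ⟨α, hα, hαH⟩ : ∃ α : F, α ≠ 0 ∧ pr (uT α) ∈ H := by
    obtain ⟨x, hx, hx1⟩ := (Subgroup.bot_or_exists_ne_one H).resolve_left hne
    obtain ⟨M, rfl⟩ := QuotientGroup.mk_surjective x
    obtain ⟨b, hb'⟩ := hshape M hx
    refine ⟨b, fun h => hx1 ?_, hb' ▸ hx⟩
    show pr M = 1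
    rw [hb', h, uT_zero]; rfl
  have hnegH : pr (uT (-α)) ∈ H := uT_inv α ▸ inv_mem hαH
  have hδ : 2 / α ≠ 0 := div_ne_zero h2 hα
  set g₁ := (lT (2 / α) : SL2) with hg₁
  set c₁ := (wT : SL2) * dT (2 / α) hδ with hc₁
  set Y : SL2 := -(g₁ * uT (-α) * g₁⁻¹) with hY
  set L : SL2 := c₁ * uT (-α) * c₁⁻¹ with hL
  have hYL : Y * L = uT α := by
    have e4 : L = lT (4 / α) := by
      obtain ⟨a1, a2, a3, a4⟩ := mul_apply_two (c₁ * uT (-α)) c₁⁻¹
      obtain ⟨b1, b2, b3, b4⟩ := mul_apply_two c₁ (uT (-α))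
      obtain ⟨c1, c2, c3, c4⟩ := mul_apply_two (wT : SL2) (dT (2 / α) hδ)
      obtain ⟨d1, d2, d3, d4⟩ := inv_apply c₁
      rw [hL]
      refine ext_two ?_ ?_ ?_ ?_ <;>
        simp only [a1, a2, a3, a4, b1, b2, b3, b4, d1, d2, d3, d4, hc₁, c1, c2, c3, c4] <;>
        simp  <;> field_simp <;> ring
    obtain ⟨a1, a2, a3, a4⟩ := mul_apply_two Y L
    obtain ⟨b1, b2, b3, b4⟩ := mul_apply_two (g₁ * uT (-α)) g₁⁻¹
    obtain ⟨c1, c2, c3, c4⟩ := mul_apply_two g₁ (uT (-α))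
    refine ext_two ?_ ?_ ?_ ?_ <;>
      simp only [a1, a2, a3, a4, hY, neg_apply_two, b1, b2, b3, b4, c1, c2, c3, c4, e4, hg₁, lT_inv] <;>
      simp  <;> field_simp <;> ring
  have hYH : pr g₁⁻¹ * pr Y * pr g₁ ∈ H := by
    show pr (g₁⁻¹ * Y * g₁) ∈ H
    rw [show pr (g₁⁻¹ * Y * g₁) = pr (uT (-α)) from (pr_eq_iff _ _).2 (Or.inr (by
      rw [hY, mul_neg, neg_mul, neg_neg]; group))]
    exact hnegH
  have hLH : pr c₁⁻¹ * pr L * pr c₁ ∈ H := by
    show pr (c₁⁻¹ * L * c₁) ∈ H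
    rw [hL, show c₁⁻¹ * (c₁ * uT (-α) * c₁⁻¹) * c₁ = uT (-α) by group]
    exact hnegH
  have h := hb.triangle (pr (uT α)) (pr Y) ⟨1, by simpa using hαH⟩ fun g h1 h3 => by
    obtain ⟨G, rfl⟩ := QuotientGroup.mk_surjective g
    obtain ⟨b, hb'⟩ := hshape G (h1.mem hαH)
    show pr G = 1
    rw [hb']
    have h := hup (g₁⁻¹ * uT b * g₁) (by
      have := h3 (pr g₁) hYH
      rwa [show (QuotientGroup.mk G : 𝔾) = pr (uT b) from hb'] at this)
    obtain ⟨-, -, a3, -⟩ := mul_apply_two (g₁⁻¹ * uT b) g₁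
    obtain ⟨-, -, b3, b4⟩ := mul_apply_two g₁⁻¹ (uT b)
    rw [a3, b3, b4, hg₁, lT_inv] at h
    simp  at h
    have hb0 : b = 0 := mul_left_cancel₀ (mul_ne_zero hδ hδ) (by linear_combination -h)
    rw [hb0, uT_zero]; rfl
  rw [← hYL, show (pr Y)⁻¹ * pr (Y * L) = pr L from inv_mul_cancel_left (pr Y) (pr L), hYL] at h
  have := hup (c₁⁻¹ * uT α * c₁) (h (pr c₁) hLH)
  obtain ⟨-, -, a3, -⟩ := mul_apply_two (c₁⁻¹ * uT α) c₁
  obtain ⟨-, -, b3, b4⟩ := mul_apply_two c₁⁻¹ (uT α)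
  obtain ⟨c1, c2, c3, c4⟩ := mul_apply_two (wT : SL2) (dT (2 / α) hδ)
  obtain ⟨d1, d2, d3, d4⟩ := inv_apply c₁
  simp only [a3, b3, b4, d3, d4, hc₁, c1, c2, c3, c4] at this
  simp [hα, h2] at this

/-- For even `q` a non-trivial group of translations is binary only if it is the full one. -/
theorem uT_mem_of_binary [CharP F 2] {H : Subgroup 𝔾} (hb : IsBinary H) (hne : H ≠ ⊥)
    (hup : UpperIn H) (hu : ∀ M : SL2, pr M ∈ H → tr M = 0) (b : F) : pr (uT b) ∈ H := by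
  have h2 : (2 : F) = 0 := CharTwo.two_eq_zero
  have hshape : ∀ M : SL2, pr M ∈ H → M = uT (M 0 1) := by
    intro M hM
    have h10 := hup M hM
    have hd := det_eq M
    rw [h10, mul_zero, sub_zero] at hd
    have he : M 1 1 = M 0 0 := by
      have := hu M hM
      rw [tr] at this
      linear_combination this - M 0 0 * h2
    rw [he] at hd
    have h1 : M 0 0 = 1 := by
      rcases mul_self_eq_one_iff.1 hd with h | h
      · exact h
      · rwa [CharTwo.neg_eq] at h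
    exact ext_two (by simp [h1]) (by simp) (by simp [h10]) (by simp [he, h1])
  let X : AddSubgroup F :=
    { carrier := {b | pr (uT b) ∈ H}
      zero_mem' := by simp [uT_zero]
      add_mem' := fun {a b} ha hb' => by
        have := mul_mem (show pr (uT a) ∈ H from ha) (show pr (uT b) ∈ H from hb')
        show pr (uT (a + b)) ∈ H
        rwa [← QuotientGroup.mk_mul, uT_mul] at this
      neg_mem' := fun {a} ha => by
        have := inv_mem (show pr (uT a) ∈ H from ha)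
        show pr (uT (-a)) ∈ H
        rwa [← QuotientGroup.mk_inv, uT_inv] at this }
  have hX0 : X ≠ ⊥ := by
    obtain ⟨x, hx, hx1⟩ := (Subgroup.bot_or_exists_ne_one H).resolve_left hne
    obtain ⟨M, rfl⟩ := QuotientGroup.mk_surjective x
    intro hbot
    have hm : M 0 1 ∈ X := (hshape M hx) ▸ hx
    rw [hbot, AddSubgroup.mem_bot] at hm
    refine hx1 ?_
    show pr M = 1
    rw [hshape M hx, hm, uT_zero]; rfl
  suffices hX1 : X = ⊤ by
    have : b ∈ X := hX1 ▸ AddSubgroup.mem_top b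
    exact this
  by_contra hX1
  obtain ⟨c, e, a, hc, he, ha, hac, hae, hall⟩ := CfsgLib.SuzukiGroup.scalar_config hX0 hX1
  have hsqrt : ∀ x : F, x ≠ 0 → ∃ d, ∃ hd : d ≠ 0, d * d = x := fun x hx => by
    obtain ⟨d, hd⟩ := SpecLin.SLTwo.exists_sq_of_char_two h2 x
    exact ⟨d, fun h => hx (by rw [← hd, h]; simp), by rw [← hd, sq]⟩
  obtain ⟨dc, hdc0, hdc⟩ := hsqrt c hc
  choose d hd0 hd using fun β : {β : F // β ∈ X ∧ β ≠ 0} => hsqrt (e / β) (div_ne_zero he β.2.2)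
  have hconj : ∀ (z δ : F) (hδ : δ ≠ 0),
      (pr (dT δ hδ))⁻¹ * pr (uT z) * pr (dT δ hδ) = pr (uT (z / (δ * δ))) := by
    intro z δ hδ
    show pr ((dT δ hδ)⁻¹ * uT z * dT δ hδ) = _
    congr 1
    obtain ⟨a1, a2, a3, a4⟩ := mul_apply_two ((dT δ hδ)⁻¹ * uT z) (dT δ hδ)
    obtain ⟨b1, b2, b3, b4⟩ := mul_apply_two (dT δ hδ)⁻¹ (uT z)
    obtain ⟨c1, c2, c3, c4⟩ := inv_apply (dT δ hδ)
    refine ext_two ?_ ?_ ?_ ?_ <;>
      simp only [a1, a2, a3, a4, b1, b2, b3, b4, c1, c2, c3, c4] <;> simp  <;> field_simp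
  obtain ⟨g, hgH, hgp, hgc⟩ := hb.exists_fix (fun β : {β : F // β ∈ X ∧ β ≠ 0} => pr (dT (d β) (hd0 β)))
    (pr (dT dc hdc0)) (pr (uT a)) ha (fun β => ⟨pr (uT e), by
      rw [hconj, hd, div_div_cancel₀ he]; exact β.2.1, by
      rw [show (pr (uT e))⁻¹ * pr (uT a) = pr (uT (-e + a)) by rw [← uT_mul, ← uT_inv]; rfl, hconj, hdc,
        CharTwo.neg_eq, add_comm]
      exact hae⟩)
  obtain ⟨G, rfl⟩ := QuotientGroup.mk_surjective g
  have hG := hshape G hgH
  have hx : G 0 1 = 0 := hall _ (hG ▸ hgH) fun β hβ hβ0 => by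
    have := hgp ⟨β, hβ, hβ0⟩
    rw [show (QuotientGroup.mk G : 𝔾) = pr (uT (G 0 1)) from congrArg pr hG, hconj, hd] at this
    exact this
  rw [show (QuotientGroup.mk G : 𝔾) = pr (uT (G 0 1)) from congrArg pr hG, hx, uT_zero,
    show pr (1 : SL2) = 1 from rfl, inv_one, one_mul, hconj, hdc] at hgc
  exact hac hgc

end CfsgLib.BinaryPSL
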